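import Cfsg.Agent.Mrg.Omega.SQ1.Choice
import Cfsg.Agent.Mrg.Omega.FFMutual
import Cfsg.Agent.ZN.Facts
import Cfsg.Agent.Mrg.Omega.NO3b.UMethod
import Cfsg.Agent.Mrg.Omega.IId.LFour.Quarter
import Cfsg.Agent.Mrg.Omega.BTwo.Basic
import Cfsg.Agent.Mrg.Omega.IId.Triangle

-- merged: Cfsg.Agent.Mrg.Omega.IId.LFour.JPush
section

/-!
# `J(S) ≰ O₂(P)`, `P ∈ P*(S)`, no over-offenders on `V = V_P`: `[Ω₁Z(J(O₂(P))), ⟨J(S)^P⟩] ≤ V`

((0) of helper612 #11397.)  For `A ∈ 𝒜(S)`: `(A ∩ O₂(P)) V ∈ 𝒜(S)`, hence `V ≤ J(S)`, `J(O₂(P)) ≤ J(S)`,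
`Z_J = Ω₁Z(J(S)) ≤ Y := Ω₁Z(J(O₂(P)))`, `Y = V C_Y(A)`, `[Y, A] ≤ V`.
-/

set_option autoImplicit false

namespace Cfsg.Agent.Omega.IId.LFour.JPush

open Subgroup Cfsg Cfsg.Agent.ZN.ChoiceBase
open Cfsg.Agent.ZN (o2 zc jj zj zl)
open Cfsg.Agent.Omega.MinPar Cfsg.Agent.Omega.FFThm
open Cfsg.Agent.PLocal.ElemAbSup (isElementaryAbelian_sup)
open Cfsg.Agent.PLocal.ThompsonJ (isElementaryAbelian_mono)
open Cfsg.Agent.Omega.SQ1.Bau (elem_comm elem_sq mem_sup_comm card_sup_comm mem_AA_of_comm zj_le_AA)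

universe u

variable {G : Type u} [Group G] [Finite G] {S : Sylow 2 G} {P A : Subgroup G}

/-- `C_A(V) = A ∩ O₂(P)` -/
theorem inf_cent (hG : IsCharacteristicTwoType G) (hP : IsParS (S : Subgroup G) P)
    (hA : A ≤ (S : Subgroup G)) :
    A ⊓ centralizer (zl (S : Subgroup G) P : Set G) = A ⊓ o2 P := by
  rw [← IsParS.inf_centralizer S hG hP, ← inf_assoc, inf_eq_left.2 hA]

/-- `O₂(P)` centralises `V` -/
theorem comm_V (hG : IsCharacteristicTwoType G) (hP : IsParS (S : Subgroup G) P) {x v : G}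
    (hx : x ∈ o2 P) (hv : v ∈ zl (S : Subgroup G) P) : x * v = v * x :=
  (mem_zc.1 (hP.isLoc.zl_le S hG hv)).2.2 x hx

theorem V_le (hG : IsCharacteristicTwoType G) (hP : IsParS (S : Subgroup G) P) :
    zl (S : Subgroup G) P ≤ o2 P := fun _ hv => (mem_zc.1 (hP.isLoc.zl_le S hG hv)).1

theorem star_elem (hG : IsCharacteristicTwoType G) (hP : IsParS (S : Subgroup G) P)
    (hA : A ∈ AA (S : Subgroup G)) :
    IsElementaryAbelian 2 (A ⊓ o2 P ⊔ zl (S : Subgroup G) P : Subgroup G) :=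
  isElementaryAbelian_sup (isElementaryAbelian_mono hA.1 inf_le_left) (elem_zl hG S hP.isLoc)
    fun _ hv => mem_centralizer_iff.2 fun _ hx => comm_V hG hP hx.2 hv

theorem star_le (hG : IsCharacteristicTwoType G) (hP : IsParS (S : Subgroup G) P) :
    A ⊓ o2 P ⊔ zl (S : Subgroup G) P ≤ o2 P := sup_le inf_le_right (V_le hG hP)

theorem o2_le_S (hP : IsParS (S : Subgroup G) P) : o2 P ≤ (S : Subgroup G) := hP.isLoc.o2_le S

theorem card_star (hG : IsCharacteristicTwoType G) (hP : IsParS (S : Subgroup G) P) :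
    Nat.card ↥(A ⊓ o2 P ⊔ zl (S : Subgroup G) P) * Nat.card ↥(A ⊓ zl (S : Subgroup G) P) =
      Nat.card ↥(A ⊓ o2 P) * Nat.card (zl (S : Subgroup G) P) := by
  have h1 := card_sup_comm (A := A ⊓ o2 P) (B := zl (S : Subgroup G) P)
    fun x hx v hv => comm_V hG hP hx.2 hv
  have h2 : A ⊓ o2 P ⊓ zl (S : Subgroup G) P = A ⊓ zl (S : Subgroup G) P := by
    rw [inf_assoc, inf_eq_right.2 (V_le hG hP)]
  rwa [h2] at h1

omit [Finite G] in
theorem inf_le (hA : A ∈ AA (S : Subgroup G)) :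
    A ⊓ zl (S : Subgroup G) P ≤ zl (S : Subgroup G) P ⊓ centralizer (A : Set G) := by
  rintro x ⟨h1, h2⟩
  exact ⟨h2, mem_centralizer_iff.2 fun a ha => elem_comm hA.1 a ha x h1⟩

/-- `A ∈ 𝒜(S)`, `A ≰ O₂(P)`, is an offender on `V` -/
theorem off (hG : IsCharacteristicTwoType G) (hP : IsParS (S : Subgroup G) P)
    (hA : A ∈ AA (S : Subgroup G)) (hn : ¬ A ≤ o2 P) : Off (zl (S : Subgroup G) P) A := by
  refine ⟨hA.1, fun h => hn ?_, ?_⟩
  · have h1 := inf_cent hG hP hA.2.1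
    rw [inf_eq_left.2 h] at h1
    rw [h1]
    exact inf_le_right
  · rw [inf_cent hG hP hA.2.1, mul_comm, ← card_star hG hP]
    refine Nat.mul_le_mul ?_ ?_
    · exact hA.2.2 _ (star_elem hG hP hA) ((star_le hG hP).trans (o2_le_S hP))
    · exact card_le_of_le (inf_le hA)

/-- `(A ∩ O₂(P)) V ∈ 𝒜(S)` -/
theorem star_mem (hG : IsCharacteristicTwoType G) (hP : IsParS (S : Subgroup G) P)
    (hno : NoOver (zl (S : Subgroup G) P) P) (hA : A ∈ AA (S : Subgroup G)) :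
    A ⊓ o2 P ⊔ zl (S : Subgroup G) P ∈ AA (S : Subgroup G) := by
  have h1 := hno A (hA.2.1.trans hP.isLoc.le) hA.1
  rw [inf_cent hG hP hA.2.1, mul_comm (Nat.card (zl (S : Subgroup G) P)), ← card_star hG hP] at h1
  have h2 : Nat.card ↥(A ⊓ zl (S : Subgroup G) P) ≤
      Nat.card ↥(zl (S : Subgroup G) P ⊓ centralizer (A : Set G)) := card_le_of_le (inf_le hA)
  have h3 : 0 < Nat.card ↥(zl (S : Subgroup G) P ⊓ centralizer (A : Set G)) := Nat.card_pos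
  have h4 : Nat.card A ≤ Nat.card ↥(A ⊓ o2 P ⊔ zl (S : Subgroup G) P) := by
    refine Nat.le_of_mul_le_mul_right ?_ h3
    exact h1.trans (Nat.mul_le_mul_left _ h2)
  exact ⟨star_elem hG hP hA, (star_le hG hP).trans (o2_le_S hP),
    fun B hB hBS => (hA.2.2 B hB hBS).trans h4⟩

theorem mem_AA_o2 (hP : IsParS (S : Subgroup G) P) {B : Subgroup G}
    (hB : B ∈ AA (S : Subgroup G)) (hle : B ≤ o2 P) : B ∈ AA (o2 P) :=
  ⟨hB.1, hle, fun C hC hCP => hB.2.2 C hC (hCP.trans (o2_le_S hP))⟩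

section

variable (hG : IsCharacteristicTwoType G) (hP : IsParS (S : Subgroup G) P)
  (hno : NoOver (zl (S : Subgroup G) P) P)
include hG hP hno

/-- `V ≤ J(S)` -/
theorem V_le_jj : zl (S : Subgroup G) P ≤ jj (S : Subgroup G) := by
  obtain ⟨A, hA⟩ := AA_nonempty (S : Subgroup G)
  exact le_sup_right.trans (le_jj (star_mem hG hP hno hA))

/-- `J(O₂(P)) ≤ J(S)` -/
theorem jj_o2_le : jj (o2 P) ≤ jj (S : Subgroup G) := by
  obtain ⟨A, hA⟩ := AA_nonempty (S : Subgroup G)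
  have h1 := star_mem hG hP hno hA
  refine jj_mono (o2_le_S hP) ?_
  rw [mm_eq h1]
  exact card_le_mm h1.1 (star_le hG hP)

/-- `Z_J ≤ Y = Ω₁Z(J(O₂(P)))` -/
theorem zj_le : zj (S : Subgroup G) ≤ zj (o2 P) := by
  intro x hx
  obtain ⟨h1, h2, h3⟩ := mem_zj.1 hx
  have hxO : x ∈ o2 P := by
    rw [← IsParS.inf_centralizer S hG hP]
    exact ⟨jj_le _ h1, mem_centralizer_iff.2 fun v hv => h3 v (V_le_jj hG hP hno hv)⟩
  exact Cfsg.Agent.ZN.mem_zj_of_comm hxO h2 fun b hb => h3 b (jj_o2_le hG hP hno hb)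

/-- `[Y, A] ≤ V` -/
theorem comm_mem (hA : A ∈ AA (S : Subgroup G)) {y a : G} (hy : y ∈ zj (o2 P)) (ha : a ∈ A) :
    a * y * a⁻¹ * y⁻¹ ∈ zl (S : Subgroup G) P := by
  have h1 := mem_AA_o2 hP (star_mem hG hP hno hA) (star_le hG hP)
  have h0 : ∀ x ∈ A ⊓ o2 P, ∀ v ∈ zl (S : Subgroup G) P, x * v = v * x :=
    fun x hx v hv => comm_V hG hP hx.2 hv
  obtain ⟨b, hb, v, hv, rfl⟩ := mem_sup_comm h0 (zj_le_AA h1 hy)
  have h2 : a * b = b * a := elem_comm hA.1 a ha b hb.1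
  have h3 : b * v = v * b := comm_V hG hP hb.2 hv
  have haV : a ∈ normalizer (zl (S : Subgroup G) P : Set G) :=
    MinSimple.VModule.le_normalizer_zl _ _ (hP.isLoc.le (hA.2.1 ha))
  have h4 : a * v * a⁻¹ ∈ zl (S : Subgroup G) P := (mem_normalizer_iff.1 haV v).1 hv
  have h5 : b * (a * v * a⁻¹) = (a * v * a⁻¹) * b := comm_V hG hP hb.2 h4
  have e : a * (b * v) * a⁻¹ * (b * v)⁻¹ = (a * v * a⁻¹) * v⁻¹ := by
    calc a * (b * v) * a⁻¹ * (b * v)⁻¹ = (a * b) * v * a⁻¹ * v⁻¹ * b⁻¹ := by group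
      _ = (b * (a * v * a⁻¹)) * v⁻¹ * b⁻¹ := by rw [h2]; group
      _ = (a * v * a⁻¹) * (b * v⁻¹) * b⁻¹ := by rw [h5]; group
      _ = (a * v * a⁻¹) * v⁻¹ := by
        have h6 : b * v⁻¹ = v⁻¹ * b := by
          calc b * v⁻¹ = v⁻¹ * (v * b) * v⁻¹ := by group
            _ = v⁻¹ * (b * v) * v⁻¹ := by rw [h3]
            _ = v⁻¹ * b := by group
        rw [h6]; group
  rw [e]
  exact mul_mem h4 (inv_mem hv)

/-- the elements `g` of `P` with `[Y, g] ≤ V` -/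
def DD (S : Subgroup G) (P : Subgroup G) : Subgroup G where
  carrier := {g | g ∈ P ∧ ∀ y ∈ zj (o2 P), g * y * g⁻¹ * y⁻¹ ∈ zl S P}
  mul_mem' := by
    rintro g h ⟨hg, h1⟩ ⟨hh, h2⟩
    refine ⟨mul_mem hg hh, fun y hy => ?_⟩
    have e : g * h * y * (g * h)⁻¹ * y⁻¹ = g * (h * y * h⁻¹ * y⁻¹) * g⁻¹ * (g * y * g⁻¹ * y⁻¹) := by group
    rw [e]
    exact mul_mem ((mem_normalizer_iff.1 (MinSimple.VModule.le_normalizer_zl _ _ hg) _).1 (h2 y hy)) (h1 y hy)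
  one_mem' := ⟨one_mem _, fun y _ => by
    have e : (1 : G) * y * 1⁻¹ * y⁻¹ = 1 := by group
    rw [e]; exact one_mem _⟩
  inv_mem' := by
    rintro g ⟨hg, h1⟩
    refine ⟨inv_mem hg, fun y hy => ?_⟩
    have e : g⁻¹ * y * g⁻¹⁻¹ * y⁻¹ = g⁻¹ * (g * y * g⁻¹ * y⁻¹)⁻¹ * g⁻¹⁻¹ := by group
    rw [e]
    exact (mem_normalizer_iff.1 (MinSimple.VModule.le_normalizer_zl _ _ (inv_mem hg)) _).1 (inv_mem (h1 y hy))

omit hG hP hno [Finite G] in
theorem mem_DD {g : G} : g ∈ DD (S : Subgroup G) P ↔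
    g ∈ P ∧ ∀ y ∈ zj (o2 P), g * y * g⁻¹ * y⁻¹ ∈ zl (S : Subgroup G) P := Iff.rfl

omit hG hP hno [Finite G] in
theorem le_normalizer_DD : P ≤ normalizer (DD (S : Subgroup G) P : Set G) := by
  have key : ∀ p ∈ P, ∀ g ∈ DD (S : Subgroup G) P, p * g * p⁻¹ ∈ DD (S : Subgroup G) P := by
    rintro p hp g ⟨hg, h1⟩
    refine ⟨mul_mem (mul_mem hp hg) (inv_mem hp), fun y hy => ?_⟩
    have hn : P ≤ normalizer (zj (o2 P) : Set G) :=
      (Cfsg.Agent.ZN.le_normalizer_o2 P).trans (Cfsg.Agent.ZN.normalizer_le_normalizer_zj _)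
    have hy' : p⁻¹ * y * p ∈ zj (o2 P) := by
      have := (mem_normalizer_iff.1 (hn (inv_mem hp)) y).1 hy
      rwa [inv_inv] at this
    have h2 := (mem_normalizer_iff.1 (MinSimple.VModule.le_normalizer_zl (S : Subgroup G) P hp) _).1 (h1 _ hy')
    have e : p * g * p⁻¹ * y * (p * g * p⁻¹)⁻¹ * y⁻¹ =
        p * (g * (p⁻¹ * y * p) * g⁻¹ * (p⁻¹ * y * p)⁻¹) * p⁻¹ := by group
    rw [e]
    exact h2
  intro p hp
  rw [mem_normalizer_iff]
  refine fun g => ⟨key p hp g, fun h => ?_⟩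
  have := key p⁻¹ (inv_mem hp) _ h
  simpa [mul_assoc] using this

/-- `J(S) ≤ {g ∈ P | [Y, g] ≤ V}` -/
theorem jj_le_DD : jj (S : Subgroup G) ≤ DD (S : Subgroup G) P := by
  rw [jj_eq]
  refine sSup_le fun A hA a ha => ?_
  exact ⟨hP.isLoc.le (hA.2.1 ha), fun y hy => comm_mem hG hP hno hA hy ha⟩

/-- **`[Y, g] ≤ V` for `g` in a normal subgroup `N ≥ J(S)` of `P` with `N S = P`.** -/
theorem exists_push (hJ : ¬ jj (S : Subgroup G) ≤ o2 P) : ∃ N : Subgroup G, N ≤ P ∧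
    P ≤ normalizer (N : Set G) ∧ N ⊔ (S : Subgroup G) = P ∧ jj (S : Subgroup G) ≤ N ∧
    ∀ g ∈ N, ∀ y ∈ zj (o2 P), g * y * g⁻¹ * y⁻¹ ∈ zl (S : Subgroup G) P := by
  refine ⟨DD (S : Subgroup G) P, fun g hg => hg.1, le_normalizer_DD, ?_, jj_le_DD hG hP hno,
    fun g hg => hg.2⟩
  rcases IsPar.sup_eq_or_inf_le S hP.toIsPar (N := DD (S : Subgroup G) P) (fun g hg => hg.1)
    le_normalizer_DD with h | h
  · exact h
  · exact absurd ((le_inf (jj_le _) (jj_le_DD hG hP hno)).trans h) hJ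

end

end Cfsg.Agent.Omega.IId.LFour.JPush

end

-- merged: Cfsg.Agent.Mrg.Omega.IId.LFour.TriJ
section

/-!
# THEOREM TRI-J (helper644 #15758, referee helper709 #15987): in the triangle `J(S) ≤ O₂(P)`

`V_P = V₁ × V₂`, two even-subset modules of degree 5 (`Wr`), `σᵢ = Mᵢ.e ss`, `z = σ₁ σ₂`, `S₁ = N_S(V₁)`.
The *triangle*: `S₁` is not a Sylow 2-subgroup of `C_G(σ₁)`.

* `Wr.exists_tri` (0): an element of `N_G(S₁)` centralises `σ₁` and maps `σ₂` to `z`;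
* `Wr.exists_m` (1): `m` is an involution of `O₂(P)`, conjugate under `N_G(S₁)` to `n = {0 1} ∈ V₁`, `[m, S₁] ≤ ⟨z⟩`
  and `m ∉ V`;
* `Wr.mem_of` (2): if `[m, N] ≤ V` for a normal subgroup `N` of `P` which induces a transposition of one factor then
  `m ∈ V`;
* `Wr.jj_le_of_tri` : `J(S) ≤ O₂(P)`.
-/

set_option autoImplicit false
set_option linter.unusedSectionVars false

namespace Cfsg.Agent.Omega.IId.LFour

open Subgroup Pointwise Cfsg Cfsg.Agent.Omega.MinPar Cfsg.Agent.Omega.FFThm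
open Cfsg.Agent.ZN (o2 zc jj zj zl zc_map)
open Cfsg.Agent.ZN.ChoiceBase (cj mem_cj)
open Cfsg.Agent.ZN.ChoiceSit (exists_syl syl_not_dvd)
open Cfsg.Agent.Omega.S5.Mod Cfsg.Agent.Omega.S5.TT
open Cfsg.Agent.Omega.S5.TT.Pos (na ns as sn n_ne s_ne a_ne n_ne_a n_ne_s a_ne_s e_sq' mem_C)
open Cfsg.Agent.Omega.Half (Amb amb_of_loc)
open Cfsg.Agent.MinSimple.VModule (mem_zc zc_le zc_comm zc_sq zc_le_zl le_normalizer_o2 o2_isPGroup o2_le
  normalizer_le_normalizer_zc le_normalizer_zl)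

universe u

theorem card_mul_relIndex {G : Type*} [Group G] {H K : Subgroup G} (h : H ≤ K) :
    Nat.card H * H.relIndex K = Nat.card K := by
  have h1 := (H.subgroupOf K).card_mul_index
  rwa [Nat.card_congr (subgroupOfEquivOfLe h).toEquiv] at h1

theorem sylow_card_eq {G : Type*} [Group G] [Finite G] (S S' : Sylow 2 G) :
    Nat.card (S : Subgroup G) = Nat.card (S' : Subgroup G) := by
  have : Fact (Nat.Prime 2) := ⟨Nat.prime_two⟩
  rw [Sylow.card_eq_multiplicity, Sylow.card_eq_multiplicity]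

/-! ### Permutations -/

theorem nn_or : ∀ p : Equiv.Perm (Fin 5), p * dd = dd * p →
    (nn ∘ p.symm = nn ∨ nn ∘ p.symm = nn + 1) ∨ (nn ∘ p.symm = aa ∨ nn ∘ p.symm = aa + 1) := by
  decide +kernel

theorem ttp_of_swaps : ∀ τ : Equiv.Perm (Fin 5),
    (∀ x, τ x ≠ x → τ (τ x) = x ∧ Equiv.swap x (τ x) * dd = dd * Equiv.swap x (τ x)) → TTp τ := by
  decide +kernel

theorem fix_three : ∀ x : Vec,
    (x ∘ (Equiv.swap 0 1 * Equiv.swap 1 2 : Equiv.Perm (Fin 5)).symm = x ∨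
      x ∘ (Equiv.swap 0 1 * Equiv.swap 1 2 : Equiv.Perm (Fin 5)).symm = x + 1) →
    (x ∘ (Equiv.swap 2 3 * Equiv.swap 3 4 : Equiv.Perm (Fin 5)).symm = x ∨
      x ∘ (Equiv.swap 2 3 * Equiv.swap 3 4 : Equiv.Perm (Fin 5)).symm = x + 1) → x = 0 ∨ x = 1 := by
  decide +kernel

/-- A normal subgroup of the symmetric group which contains a transposition. -/
theorem eq_top_of_swap {α : Type*} [DecidableEq α] [Finite α] {H : Subgroup (Equiv.Perm α)} (hH : H.Normal)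
    {i j : α} (hij : i ≠ j) (h : Equiv.swap i j ∈ H) : H = ⊤ := by
  rw [eq_top_iff, ← Equiv.Perm.closure_isSwap, closure_le]
  rintro _ ⟨x, y, hxy, rfl⟩
  obtain ⟨c, hc⟩ := isConj_iff.1 (Equiv.Perm.isConj_swap hij hxy)
  rw [← hc]
  exact hH.conj_mem _ h c

variable {G : Type u} [Group G]

namespace Wr

variable {S : Sylow 2 G} {P V₁ V₂ L₁ L₂ : Subgroup G} {M₁ : FiveMod V₁ L₁} {M₂ : FiveMod V₂ L₂}

section fin

variable [Finite G] (w : Wr S P M₁ M₂)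
include w

/-! ### (0) the triangle -/

theorem s₁_mem : M₁.e ss ∈ zc ((S : Subgroup G) ⊓ normalizer (V₁ : Set G)) :=
  mem_zc.2 ⟨w.V₁_le_S₁ (M₁.e_mem ss), fun _ hb => w.comm_ss w.S_le hb.1 hb.2, e_sq' M₁ ss⟩

theorem s₂_mem : M₂.e ss ∈ zc ((S : Subgroup G) ⊓ normalizer (V₁ : Set G)) := by
  rw [w.S₁_eq]
  exact w.symm.s₁_mem

omit [Finite G] in
theorem s_ne_s : M₁.e ss ≠ M₂.e ss := by
  intro h
  have h1 : M₁.e ss ∈ V₁ ⊓ V₂ := ⟨M₁.e_mem _, by rw [h]; exact M₂.e_mem _⟩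
  rw [w.inf, mem_bot] at h1
  exact s_ne M₁ h1

/-- `S ≤ N_G(S₁)` -/
theorem S_le_normalizer : (S : Subgroup G) ≤
    normalizer (((S : Subgroup G) ⊓ normalizer (V₁ : Set G) : Subgroup G) : Set G) := by
  have h1 : ((S : Subgroup G) ⊓ normalizer (V₁ : Set G)).relIndex (S : Subgroup G) = 2 := by
    have h2 := w.card_S₁
    have h3 := card_mul_relIndex (inf_le_left : (S : Subgroup G) ⊓ normalizer (V₁ : Set G) ≤ (S : Subgroup G))
    have h4 : 0 < Nat.card ((S : Subgroup G) ⊓ normalizer (V₁ : Set G) : Subgroup G) := Nat.card_pos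
    rw [h2, mul_comm] at h3
    exact Nat.eq_of_mul_eq_mul_right h4 h3
  have h2 := normal_of_index_eq_two (H := ((S : Subgroup G) ⊓ normalizer (V₁ : Set G)).subgroupOf S) h1
  exact (normal_subgroupOf_iff_le_normalizer inf_le_left).1 h2

/-- **(0)** In the triangle some element of `N_G(S₁)` centralises `σ₁` and maps `σ₂` to `σ₁ σ₂`. -/
theorem exists_tri (htri : 2 ∣ ((S : Subgroup G) ⊓ normalizer (V₁ : Set G)).relIndex
      (centralizer ({M₁.e ss} : Set G))) :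
    ∃ t ∈ normalizer (((S : Subgroup G) ⊓ normalizer (V₁ : Set G) : Subgroup G) : Set G),
      t * M₁.e ss = M₁.e ss * t ∧ t * M₂.e ss * t⁻¹ = M₁.e ss * M₂.e ss := by
  have : Fact (Nat.Prime 2) := ⟨Nat.prime_two⟩
  set S₁ := (S : Subgroup G) ⊓ normalizer (V₁ : Set G) with hS₁
  set C := centralizer ({M₁.e ss} : Set G) with hC
  have h2 : IsPGroup 2 S₁ := S.isPGroup'.to_le inf_le_left
  have hS₁C : S₁ ≤ C := fun x hx => mem_C.2 (w.comm_ss w.S_le hx.1 hx.2)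
  obtain ⟨T₁, hT₁, hST⟩ := exists_syl h2 hS₁C
  have hne : ¬ T₁ ≤ S₁ := by
    intro h
    have h3 := syl_not_dvd hT₁
    rw [le_antisymm h hST] at h3
    exact h3 htri
  -- `|T₁| = 2 |S₁|`
  have hcS := w.card_S₁
  have hpos : 0 < Nat.card S₁ := Nat.card_pos
  have hrel : S₁.relIndex T₁ = 2 := by
    have h3 := card_mul_relIndex hST
    have h4 : Nat.card T₁ ≤ Nat.card (S : Subgroup G) := by
      obtain ⟨S', hS'⟩ := hT₁.2.1.exists_le_sylow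
      exact (card_le_of_le hS').trans (sylow_card_eq S' S).le
    have h5 : S₁.relIndex T₁ ≠ 1 := fun h => hne (relIndex_eq_one.1 h)
    have h6 : S₁.relIndex T₁ ≤ 2 := by
      rw [hcS, ← h3, mul_comm] at h4
      exact Nat.le_of_mul_le_mul_right h4 hpos
    have h7 : S₁.relIndex T₁ ≠ 0 := by
      intro h
      rw [h, mul_zero] at h3
      exact (Nat.card_pos (α := T₁)).ne h3
    omega
  have hcT : Nat.card T₁ = Nat.card (S : Subgroup G) := by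
    rw [hcS, ← card_mul_relIndex hST, hrel, mul_comm]
  have hTn : T₁ ≤ normalizer (S₁ : Set G) := by
    have h3 := normal_of_index_eq_two (H := S₁.subgroupOf T₁) hrel
    exact (normal_subgroupOf_iff_le_normalizer hST).1 h3
  -- `T₁` is a Sylow 2-subgroup of `G`
  obtain ⟨g, hg⟩ : ∃ g : G, T₁ = cj g (S : Subgroup G) := by
    obtain ⟨S', hS'⟩ := hT₁.2.1.exists_le_sylow
    obtain ⟨g, hg⟩ := MulAction.exists_smul_eq G S S'
    refine ⟨g, ?_⟩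
    have h3 : T₁ = S' := Subgroup.eq_of_le_of_card_ge hS' (by rw [hcT]; exact (sylow_card_eq S' S).le)
    rw [h3, ← hg]
    rfl
  by_contra hcon
  push Not at hcon
  -- `T₁` centralises `σ₂`
  have hcen : ∀ t ∈ T₁, t * M₂.e ss = M₂.e ss * t := by
    intro t ht
    have htn := hTn ht
    have h3 : t * M₁.e ss = M₁.e ss * t := mem_C.1 (hT₁.1 ht)
    have h4 : t * M₂.e ss * t⁻¹ ∈ zc S₁ :=
      (mem_normalizer_iff.1 (normalizer_le_normalizer_zc _ htn) _).1 w.s₂_mem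
    have h5 := hcon t htn h3
    have h6 : t * M₂.e ss * t⁻¹ ≠ 1 := by
      rw [Ne, mul_inv_eq_one, mul_eq_left]
      exact s_ne M₂
    have h7 : t * M₂.e ss * t⁻¹ ≠ M₁.e ss := by
      intro h8
      apply w.s_ne_s
      have h9 : t⁻¹ * (t * M₂.e ss * t⁻¹) * t = t⁻¹ * M₁.e ss * t := by rw [h8]
      have h10 : t⁻¹ * M₁.e ss * t = M₁.e ss := by
        rw [mul_assoc, ← h3]; group
      rw [h10] at h9
      rw [← h9]; group
    rcases w.zS₁_le h4 with h8 | h8 | h8 | h8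
    · exact absurd h8 h6
    · exact absurd h8 h7
    · rwa [mul_inv_eq_iff_eq_mul] at h8
    · exact absurd h8 h5
  -- `σ₁, σ₂ ∈ Ω₁(Z(T₁))`, of order at most 2
  have hz1 : M₁.e ss ∈ zc T₁ :=
    mem_zc.2 ⟨hST (w.V₁_le_S₁ (M₁.e_mem ss)), fun b hb => mem_C.1 (hT₁.1 hb), e_sq' M₁ ss⟩
  have hz2 : M₂.e ss ∈ zc T₁ :=
    mem_zc.2 ⟨hST (w.V₂_le_S₁ (M₂.e_mem ss)), hcen, e_sq' M₂ ss⟩
  have hzc : zc T₁ = cj g (zc (S : Subgroup G)) := by
    rw [hg]; exact zc_map _ (MulAut.conj g).injective _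
  rw [hzc, mem_cj] at hz1 hz2
  have h1 : ∀ x : G, x ≠ 1 → g⁻¹ * x * g ≠ 1 := fun x hx h => hx (by
    have : x = g * (g⁻¹ * x * g) * g⁻¹ := by group
    rw [this, h]; group)
  rcases w.zS_le hz1 with h3 | h3
  · exact h1 _ (s_ne M₁) h3
  · rcases w.zS_le hz2 with h4 | h4
    · exact h1 _ (s_ne M₂) h4
    · apply w.s_ne_s
      have h5 := h3.trans h4.symm
      exact mul_left_cancel (mul_right_cancel h5)

/-! ### (1) the involution `m` -/

omit [Finite G] in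
/-- `V₁ ∩ ⟨σ₁ σ₂⟩ = 1` -/
theorem z_not_mem : M₁.e ss * M₂.e ss ∉ V₁ := by
  intro h
  have h1 : M₂.e ss ∈ V₁ := by
    have h2 := mul_mem (inv_mem (M₁.e_mem ss)) h
    rwa [inv_mul_cancel_left] at h2
  have h2 : M₂.e ss ∈ V₁ ⊓ V₂ := ⟨h1, M₂.e_mem _⟩
  rw [w.inf, mem_bot] at h2
  exact s_ne M₂ h2

/-- `[n, S₁] ≤ ⟨σ₁⟩` -/
theorem comm_n {x : G} (hx : x ∈ (S : Subgroup G) ⊓ normalizer (V₁ : Set G)) :
    x * M₁.e nn * x⁻¹ = M₁.e nn ∨ x * M₁.e nn * x⁻¹ = M₁.e nn * M₁.e ss := by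
  obtain ⟨p, q, hp, -⟩ := w.ind_of_norm (w.S_le hx.1) hx.2
  rcases nn_or p (w.dS w.S_le hx.1 hp) with h | h
  · exact Or.inl (by rw [hp, M₁.e_eq_iff]; exact h)
  · right
    rw [hp, ns M₁, M₁.e_eq_iff]
    exact h

/-- **(1)** -/
theorem exists_m (htri : 2 ∣ ((S : Subgroup G) ⊓ normalizer (V₁ : Set G)).relIndex
      (centralizer ({M₁.e ss} : Set G))) :
    ∃ u ∈ normalizer (((S : Subgroup G) ⊓ normalizer (V₁ : Set G) : Subgroup G) : Set G),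
      (∀ x ∈ (S : Subgroup G) ⊓ normalizer (V₁ : Set G),
        x * (u * M₁.e nn * u⁻¹) * x⁻¹ = u * M₁.e nn * u⁻¹ ∨
          x * (u * M₁.e nn * u⁻¹) * x⁻¹ = (M₁.e ss * M₂.e ss) * (u * M₁.e nn * u⁻¹)) ∧
      ∃ x ∈ (S : Subgroup G) ⊓ normalizer (V₁ : Set G),
        x * (u * M₁.e nn * u⁻¹) * x⁻¹ ≠ u * M₁.e nn * u⁻¹ := by
  obtain ⟨t, ht, h1, h2⟩ := w.exists_tri htri
  obtain ⟨s, hs, p, q, hsw⟩ := w.swap
  have hs1 := w.sw_ss w.S_le hs hsw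
  have hsn := w.S_le_normalizer hs
  have hz : (t * s) * M₁.e ss * (t * s)⁻¹ = M₁.e ss * M₂.e ss := by
    calc (t * s) * M₁.e ss * (t * s)⁻¹ = t * (s * M₁.e ss * s⁻¹) * t⁻¹ := by group
      _ = M₁.e ss * M₂.e ss := by rw [hs1, h2]
  have hu := mul_mem ht hsn
  refine ⟨t * s, hu, fun x hx => ?_, ?_⟩
  · have hx' : (t * s)⁻¹ * x * (t * s) ∈ (S : Subgroup G) ⊓ normalizer (V₁ : Set G) := by
      have := (mem_normalizer_iff.1 (inv_mem hu) x).1 hx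
      rwa [inv_inv] at this
    have e : x * (t * s * M₁.e nn * (t * s)⁻¹) * x⁻¹ =
        (t * s) * (((t * s)⁻¹ * x * (t * s)) * M₁.e nn * ((t * s)⁻¹ * x * (t * s))⁻¹) * (t * s)⁻¹ := by
      group
    rcases w.comm_n hx' with h | h
    · left
      rw [e, h]
    · right
      rw [e, h, M₁.e_comm nn ss, ← hz]
      group
  · obtain ⟨x, hx, hxt⟩ := w.exists_x
    have hx1 : x ∈ (S : Subgroup G) ⊓ normalizer (V₁ : Set G) := ⟨hx.1, hxt.mem_normalizer⟩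
    refine ⟨(t * s) * x * (t * s)⁻¹, (mem_normalizer_iff.1 hu x).1 hx1, fun h => ?_⟩
    have e : (t * s) * x * (t * s)⁻¹ * (t * s * M₁.e nn * (t * s)⁻¹) * ((t * s) * x * (t * s)⁻¹)⁻¹ =
        (t * s) * (x * M₁.e nn * x⁻¹) * (t * s)⁻¹ := by group
    rw [e, tt_n hxt] at h
    exact n_ne_a M₁ (mul_left_cancel (mul_right_cancel h)).symm

/-! ### The abstract situation -/

/-- `m` is an involution with `[m, S₁] ≤ ⟨σ₁ σ₂⟩`. -/
structure MD (w : Wr S P M₁ M₂) (m : G) : Prop where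
  mem : m ∈ (S : Subgroup G) ⊓ normalizer (V₁ : Set G)
  sq : m * m = 1
  com : ∀ x ∈ (S : Subgroup G) ⊓ normalizer (V₁ : Set G),
    x * m * x⁻¹ = m ∨ x * m * x⁻¹ = (M₁.e ss * M₂.e ss) * m

end fin

section md

variable [Finite G] {w : Wr S P M₁ M₂} {m : G}

theorem MD.symm (h : MD w m) : MD w.symm m where
  mem := by rw [← w.S₁_eq]; exact h.mem
  sq := h.sq
  com x hx := by
    rw [← w.S₁_eq] at hx
    have h1 : M₂.e ss * M₁.e ss = M₁.e ss * M₂.e ss := (w.comm (M₁.e_mem _) (M₂.e_mem _)).symm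
    rw [h1]
    exact h.com x hx

/-- elements of `S₁` whose commutator with `m` is in `V₁` centralise `m` -/
theorem MD.comm_of (h : MD w m) {x : G} (hx : x ∈ (S : Subgroup G) ⊓ normalizer (V₁ : Set G))
    (h1 : x * m * x⁻¹ * m⁻¹ ∈ V₁) : x * m = m * x := by
  rcases h.com x hx with h2 | h2
  · rwa [mul_inv_eq_iff_eq_mul] at h2
  · exfalso
    rw [h2, mul_inv_cancel_right] at h1
    exact w.z_not_mem h1

theorem MD.comm_V₁ (h : MD w m) {v : G} (hv : v ∈ V₁) : v * m = m * v := by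
  refine h.comm_of (w.V₁_le_S₁ hv) ?_
  have h1 : m * v⁻¹ * m⁻¹ ∈ V₁ := (mem_normalizer_iff.1 h.mem.2 _).1 (inv_mem hv)
  have e : v * m * v⁻¹ * m⁻¹ = v * (m * v⁻¹ * m⁻¹) := by group
  rw [e]
  exact mul_mem hv h1

theorem MD.comm_V (h : MD w m) {v : G} (hv : v ∈ zl (S : Subgroup G) P) : v * m = m * v := by
  rw [w.sup] at hv
  have h1 : V₁ ⊔ V₂ ≤ centralizer ({m} : Set G) :=
    sup_le (fun x hx => mem_C.2 (h.comm_V₁ hx)) fun x hx => mem_C.2 (h.symm.comm_V₁ hx)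
  exact mem_C.1 (h1 hv)

/-- `m ∈ O₂(P)` -/
theorem MD.mem_o2 (h : MD w m) : m ∈ o2 P := by
  rw [← IsParS.inf_centralizer S w.hG w.star]
  exact ⟨h.mem.1, mem_centralizer_iff.2 fun v hv => h.comm_V hv⟩

/-- the elements of `V` are products -/
theorem _root_.Cfsg.Agent.Omega.IId.LFour.Wr.mem_V (w : Wr S P M₁ M₂) {v : G}
    (hv : v ∈ zl (S : Subgroup G) P) : ∃ v₁ ∈ V₁, ∃ v₂ ∈ V₂, v₁ * v₂ = v := by
  have hn : V₂ ≤ normalizer (V₁ : Set G) := fun v hv =>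
    centralizer_le_normalizer _ (mem_centralizer_iff.2 fun u hu => w.comm hu hv)
  rw [w.sup] at hv
  have h2 : v ∈ ((V₁ ⊔ V₂ : Subgroup G) : Set G) := hv
  rw [coe_mul_of_right_le_normalizer_left _ _ hn] at h2
  exact Set.mem_mul.1 h2

/-- If `m ∈ V` then `S₁` centralises `m`. -/
theorem MD.comm_of_mem (h : MD w m) (hm : m ∈ zl (S : Subgroup G) P) {x : G}
    (hx : x ∈ (S : Subgroup G) ⊓ normalizer (V₁ : Set G)) : x * m = m * x := by
  obtain ⟨v₁, hv₁, v₂, hv₂, rfl⟩ := w.mem_V hm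
  have h1 : v₁ = 1 ∨ v₁ = M₁.e ss := by
    refine w.fixed₁ hv₁ fun t ht => ?_
    have h2 : t * (v₁ * v₂) = v₁ * v₂ * t := by
      refine h.comm_of ⟨ht.1, M₁.le_normalizer ht.2⟩ ?_
      have h3 := w.L₁_comm ht.2 hv₂
      have e : t * (v₁ * v₂) * t⁻¹ * (v₁ * v₂)⁻¹ = (t * v₁ * t⁻¹) * v₁⁻¹ := by
        calc t * (v₁ * v₂) * t⁻¹ * (v₁ * v₂)⁻¹ = (t * v₁ * t⁻¹) * ((t * v₂) * t⁻¹ * v₂⁻¹) * v₁⁻¹ := by group
          _ = (t * v₁ * t⁻¹) * v₁⁻¹ := by rw [h3]; group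
      rw [e]
      exact mul_mem ((mem_normalizer_iff.1 (M₁.le_normalizer ht.2) _).1 hv₁) (inv_mem hv₁)
    have h4 := w.L₁_comm ht.2 hv₂
    refine mul_right_cancel (b := v₂) ?_
    calc t * v₁ * v₂ = v₁ * v₂ * t := by rw [mul_assoc, h2]
      _ = v₁ * (t * v₂) := by rw [h4, mul_assoc]
      _ = v₁ * t * v₂ := by group
  have h1' : v₂ = 1 ∨ v₂ = M₂.e ss := by
    refine w.symm.fixed₁ hv₂ fun t ht => ?_
    have h2 : t * (v₁ * v₂) = v₁ * v₂ * t := by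
      refine h.symm.comm_of ⟨ht.1, M₂.le_normalizer ht.2⟩ ?_
      have h3 := w.L₂_comm ht.2 hv₁
      have h5 : v₁ * v₂ = v₂ * v₁ := w.comm hv₁ hv₂
      have e : t * (v₁ * v₂) * t⁻¹ * (v₁ * v₂)⁻¹ = (t * v₂ * t⁻¹) * v₂⁻¹ := by
        rw [h5]
        calc t * (v₂ * v₁) * t⁻¹ * (v₂ * v₁)⁻¹ = (t * v₂ * t⁻¹) * ((t * v₁) * t⁻¹ * v₁⁻¹) * v₂⁻¹ := by group
          _ = (t * v₂ * t⁻¹) * v₂⁻¹ := by rw [h3]; group
      rw [e]
      exact mul_mem ((mem_normalizer_iff.1 (M₂.le_normalizer ht.2) _).1 hv₂) (inv_mem hv₂)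
    have h4 := w.L₂_comm ht.2 hv₁
    refine mul_left_cancel (a := v₁) ?_
    calc v₁ * (t * v₂) = (v₁ * t) * v₂ := by group
      _ = t * (v₁ * v₂) := by rw [← h4]; group
      _ = v₁ * (v₂ * t) := by rw [h2, mul_assoc]
  have hc1 : x * M₁.e ss = M₁.e ss * x := w.comm_ss w.S_le hx.1 hx.2
  have hc2 : x * M₂.e ss = M₂.e ss * x := by
    rw [w.S₁_eq] at hx
    exact w.symm.comm_ss w.S_le hx.1 hx.2
  have e1 : x * v₁ = v₁ * x := by
    rcases h1 with rfl | rfl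
    · rw [mul_one, one_mul]
    · exact hc1
  have e2 : x * v₂ = v₂ * x := by
    rcases h1' with rfl | rfl
    · rw [mul_one, one_mul]
    · exact hc2
  rw [← mul_assoc, e1, mul_assoc, e2, mul_assoc]

/-! ### (2) the subgroup `R₁` of the elements `g` of `N ∩ L₁` with `[m, g] ∈ V₁` -/

/-- `{g ∈ N ∩ L₁ | [m, g] ∈ V₁}` -/
def RR (M₁ : FiveMod V₁ L₁) (N : Subgroup G) (m : G) : Subgroup G where
  carrier := {g | g ∈ N ⊓ L₁ ∧ g * m * g⁻¹ * m⁻¹ ∈ V₁}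
  mul_mem' := by
    rintro g h ⟨hg, h1⟩ ⟨hh, h2⟩
    refine ⟨mul_mem hg hh, ?_⟩
    have e : g * h * m * (g * h)⁻¹ * m⁻¹ = g * (h * m * h⁻¹ * m⁻¹) * g⁻¹ * (g * m * g⁻¹ * m⁻¹) := by group
    rw [e]
    exact mul_mem ((mem_normalizer_iff.1 (M₁.le_normalizer hg.2) _).1 h2) h1
  one_mem' := ⟨one_mem _, by
    have e : (1 : G) * m * 1⁻¹ * m⁻¹ = 1 := by group
    rw [e]; exact one_mem _⟩
  inv_mem' := by
    rintro g ⟨hg, h1⟩
    refine ⟨inv_mem hg, ?_⟩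
    have e : g⁻¹ * m * g⁻¹⁻¹ * m⁻¹ = g⁻¹ * (g * m * g⁻¹ * m⁻¹)⁻¹ * g⁻¹⁻¹ := by group
    rw [e]
    exact (mem_normalizer_iff.1 (M₁.le_normalizer (inv_mem hg.2)) _).1 (inv_mem h1)

theorem mem_RR {N : Subgroup G} {g : G} :
    g ∈ RR M₁ N m ↔ g ∈ N ⊓ L₁ ∧ g * m * g⁻¹ * m⁻¹ ∈ V₁ := Iff.rfl

theorem RR_le {N : Subgroup G} : RR M₁ N m ≤ N ⊓ L₁ := fun _ h => h.1

/-- `[L₁, V] ≤ V₁` -/
theorem _root_.Cfsg.Agent.Omega.IId.LFour.Wr.comm_L₁ (w : Wr S P M₁ M₂) {g v : G} (hg : g ∈ L₁)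
    (hv : v ∈ zl (S : Subgroup G) P) : g * v * g⁻¹ * v⁻¹ ∈ V₁ := by
  obtain ⟨v₁, hv₁, v₂, hv₂, rfl⟩ := w.mem_V hv
  have h3 := w.L₁_comm hg hv₂
  have e : g * (v₁ * v₂) * g⁻¹ * (v₁ * v₂)⁻¹ = (g * v₁ * g⁻¹) * v₁⁻¹ := by
    calc g * (v₁ * v₂) * g⁻¹ * (v₁ * v₂)⁻¹ = (g * v₁ * g⁻¹) * ((g * v₂) * g⁻¹ * v₂⁻¹) * v₁⁻¹ := by group
      _ = (g * v₁ * g⁻¹) * v₁⁻¹ := by rw [h3]; group
  rw [e]
  exact mul_mem ((mem_normalizer_iff.1 (M₁.le_normalizer hg) _).1 hv₁) (inv_mem hv₁)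

/-- `N` is a normal subgroup of `P` with `[m, N] ≤ V` which induces a transposition of the first factor. -/
structure NH (w : Wr S P M₁ M₂) (m : G) (N : Subgroup G) : Prop where
  le : N ≤ P
  nor : P ≤ normalizer (N : Set G)
  com : ∀ g ∈ N, g * m * g⁻¹ * m⁻¹ ∈ zl (S : Subgroup G) P
  tra : ∃ b ∈ N ⊓ L₁, ∃ i j, i ≠ j ∧ M₁.Ind b (Equiv.swap i j)

theorem NH.symm {N : Subgroup G} (h : NH w m N) : NH w.symm m N where
  le := h.le
  nor := h.nor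
  com := h.com
  tra := by
    obtain ⟨b, hb, i, j, hij, hi⟩ := h.tra
    obtain ⟨s, hs, p, q, hsw⟩ := w.swap
    have hsP := w.S_le hs
    have hmem : s * b * s⁻¹ ∈ L₂ := by
      refine w.mem_L₂ (mul_mem (mul_mem hsP (w.L₁_le hb.2)) (inv_mem hsP)) fun v hv => ?_
      obtain ⟨x, rfl⟩ := (M₁.mem_iff v).1 hv
      have e1 := hsw.2 (x ∘ q)
      have e2 : (x ∘ q) ∘ q.symm = x := by funext i; simp
      rw [e2] at e1
      have h3 := w.L₁_comm hb.2 (M₂.e_mem (x ∘ q))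
      rw [← e1]
      calc s * b * s⁻¹ * (s * M₂.e (x ∘ q) * s⁻¹) = s * (b * M₂.e (x ∘ q)) * s⁻¹ := by group
        _ = s * (M₂.e (x ∘ q) * b) * s⁻¹ := by rw [h3]
        _ = s * M₂.e (x ∘ q) * s⁻¹ * (s * b * s⁻¹) := by group
    refine ⟨s * b * s⁻¹, ⟨(mem_normalizer_iff.1 (h.nor hsP) _).1 hb.1, hmem⟩, p i, p j,
      fun h0 => hij (p.injective h0), fun y => ?_⟩
    have e1 := hsw.1 (y ∘ p)
    have e2 : (y ∘ p) ∘ p.symm = y := by funext i; simp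
    rw [e2] at e1
    rw [← e1]
    calc s * b * s⁻¹ * (s * M₁.e (y ∘ p) * s⁻¹) * (s * b * s⁻¹)⁻¹ = s * (b * M₁.e (y ∘ p) * b⁻¹) * s⁻¹ := by
          group
      _ = s * M₁.e ((y ∘ p) ∘ (Equiv.swap i j).symm) * s⁻¹ := by rw [hi]
      _ = M₂.e (((y ∘ p) ∘ (Equiv.swap i j).symm) ∘ p.symm) := hsw.1 _
      _ = M₂.e (y ∘ (Equiv.swap (p i) (p j)).symm) := by
        congr 1
        rw [Equiv.swap_apply_apply]
        rfl

/-- `N ∩ L₁` induces `S₅` on `V₁`. -/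
theorem NH.exists_ind {N : Subgroup G} (h : NH w m N) (p : Equiv.Perm (Fin 5)) :
    ∃ g ∈ N ⊓ L₁, M₁.Ind g p := by
  let H : Subgroup (Equiv.Perm (Fin 5)) :=
    { carrier := {p | ∃ g ∈ N ⊓ L₁, M₁.Ind g p}
      mul_mem' := by
        rintro p q ⟨g, hg, h1⟩ ⟨k, hk, h2⟩
        exact ⟨g * k, mul_mem hg hk, h1.mul h2⟩
      one_mem' := ⟨1, one_mem _, M₁.ind_one⟩
      inv_mem' := by
        rintro p ⟨g, hg, h1⟩
        exact ⟨g⁻¹, inv_mem hg, h1.inv⟩ }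
  have hH : H.Normal := ⟨by
    rintro p ⟨g, hg, h1⟩ q
    obtain ⟨l, hl, h2⟩ := M₁.exists_lift q
    exact ⟨l * g * l⁻¹, mem_inf.2 ⟨(mem_normalizer_iff.1 (h.nor (w.L₁_le hl)) _).1 hg.1,
      L₁.mul_mem (L₁.mul_mem hl hg.2) (L₁.inv_mem hl)⟩, (h2.mul h1).mul h2.inv⟩⟩
  obtain ⟨b, hb, i, j, hij, hi⟩ := h.tra
  have h1 := eq_top_of_swap hH hij ⟨b, hb, hi⟩
  have h2 : p ∈ H := by rw [h1]; trivial
  exact h2

/-- the squares of the elements of `N ∩ L₁` are in `R₁` -/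
theorem NH.sq_mem {N : Subgroup G} (h : NH w m N) {g : G} (hg : g ∈ N ⊓ L₁) : g * g ∈ RR M₁ N m := by
  refine ⟨mul_mem hg hg, ?_⟩
  have h1 := h.com g hg.1
  have h2 := w.comm_L₁ hg.2 h1
  have h3 : (g * m * g⁻¹ * m⁻¹) * (g * m * g⁻¹ * m⁻¹) = 1 := by
    have := (elem_zl w.hG S w.star.isLoc).2 _ h1
    rwa [pow_two] at this
  have e : g * g * m * (g * g)⁻¹ * m⁻¹ = g * (g * m * g⁻¹ * m⁻¹) * g⁻¹ * (g * m * g⁻¹ * m⁻¹)⁻¹ *
      ((g * m * g⁻¹ * m⁻¹) * (g * m * g⁻¹ * m⁻¹)) := by group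
  rw [e, h3, mul_one]
  exact h2

/-- An element of `V₁` centralised by `R₁` is trivial. -/
theorem NH.fixed {N : Subgroup G} (h : NH w m N) {v : G} (hv : v ∈ V₁)
    (hc : ∀ g ∈ RR M₁ N m, g * v = v * g) : v = 1 := by
  obtain ⟨x, rfl⟩ := (M₁.mem_iff v).1 hv
  have key : ∀ p : Equiv.Perm (Fin 5), (p * p) * (p * p) = p → x ∘ p.symm = x ∨ x ∘ p.symm = x + 1 := by
    intro p hp
    obtain ⟨g, hg, hi⟩ := h.exists_ind (p * p)
    have h1 := hi.mul hi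
    rw [hp] at h1
    exact (h1.commute_iff x).1 (hc _ (h.sq_mem hg))
  exact (M₁.ker x).2 (fix_three x (key _ (by decide)) (key _ (by decide)))

/-- `R₁` is normalised by the elements `k` of `P` which normalise `V₁` and satisfy `[m, k] ∈ V`. -/
theorem NH.conj_RR {N : Subgroup G} (h : NH w m N) {k g : G} (hk : k ∈ P)
    (hkV : k ∈ normalizer (V₁ : Set G)) (hkm : k⁻¹ * m * k * m⁻¹ ∈ zl (S : Subgroup G) P)
    (hg : g ∈ RR M₁ N m) : k * g * k⁻¹ ∈ RR M₁ N m := by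
  obtain ⟨p, q, -, hq⟩ := w.ind_of_norm hk hkV
  refine ⟨⟨(mem_normalizer_iff.1 (h.nor hk) _).1 hg.1.1, w.conj_L₁ hk hq hg.1.2⟩, ?_⟩
  set b := k⁻¹ * m * k * m⁻¹ with hb
  have h1 := w.comm_L₁ hg.1.2 hkm
  have hVc : ∀ x ∈ zl (S : Subgroup G) P, ∀ y ∈ zl (S : Subgroup G) P, x * y = y * x :=
    fun x hx y hy => w.amb.comm x hx y hy
  have hgV : g * m * g⁻¹ * m⁻¹ ∈ zl (S : Subgroup G) P := w.V₁_le hg.2
  have h2 : (g * m * g⁻¹ * m⁻¹) * b⁻¹ = b⁻¹ * (g * m * g⁻¹ * m⁻¹) := hVc _ hgV _ (inv_mem hkm)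
  have e : k * g * k⁻¹ * m * (k * g * k⁻¹)⁻¹ * m⁻¹ =
      k * ((g * b * g⁻¹ * b⁻¹) * (g * m * g⁻¹ * m⁻¹)) * k⁻¹ := by
    have e1 : k⁻¹ * m * k = b * m := by rw [hb]; group
    calc k * g * k⁻¹ * m * (k * g * k⁻¹)⁻¹ * m⁻¹
        = k * g * (k⁻¹ * m * k) * g⁻¹ * (k⁻¹ * m * k)⁻¹ * k⁻¹ := by group
      _ = k * (g * b * g⁻¹ * ((g * m * g⁻¹ * m⁻¹) * b⁻¹)) * k⁻¹ := by rw [e1]; group
      _ = k * ((g * b * g⁻¹ * b⁻¹) * (g * m * g⁻¹ * m⁻¹)) * k⁻¹ := by rw [h2]; group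
  rw [e]
  exact (mem_normalizer_iff.1 hkV _).1 (mul_mem h1 hg.2)

/-- `S ∩ R₁` is a Sylow 2-subgroup of `R₁`. -/
theorem NH.not_dvd {N : Subgroup G} (h : NH w m N) :
    ¬ 2 ∣ (RR M₁ N m ⊓ (S : Subgroup G)).relIndex (RR M₁ N m) := by
  have hSy : ¬ 2 ∣ (S : Subgroup G).relIndex P := MinSimple.Basic.not_dvd_relIndex S w.S_le
  -- `X = ⟨L₁, L₂⟩`
  have hXP : L₁ ⊔ L₂ ≤ P := sup_le w.L₁_le w.L₂_le
  have hnX : P ≤ normalizer ((L₁ ⊔ L₂ : Subgroup G) : Set G) := by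
    intro g hg
    refine MinSimple.VModule.mem_normalizer_of_map_le ?_
    rw [Subgroup.map_sup]
    rcases w.mov g hg with ⟨p, q, hp, hq⟩ | ⟨p, q, hsw⟩
    · refine sup_le_sup ?_ ?_
      · rintro _ ⟨l, hl, rfl⟩
        exact w.conj_L₁ hg hq hl
      · rintro _ ⟨l, hl, rfl⟩
        exact w.conj_L₂ hg hp hl
    · rw [sup_comm]
      refine sup_le_sup ?_ ?_
      · rintro _ ⟨l, hl, rfl⟩
        refine w.mem_L₁ (mul_mem (mul_mem hg (w.L₂_le hl)) (inv_mem hg)) fun v hv => ?_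
        obtain ⟨x, rfl⟩ := (M₂.mem_iff v).1 hv
        have e1 := hsw.1 (x ∘ p)
        have e2 : (x ∘ p) ∘ p.symm = x := by funext i; simp
        rw [e2] at e1
        have h3 := w.L₂_comm hl (M₁.e_mem (x ∘ p))
        rw [← e1]
        calc g * l * g⁻¹ * (g * M₁.e (x ∘ p) * g⁻¹) = g * (l * M₁.e (x ∘ p)) * g⁻¹ := by group
          _ = g * (M₁.e (x ∘ p) * l) * g⁻¹ := by rw [h3]
          _ = g * M₁.e (x ∘ p) * g⁻¹ * (g * l * g⁻¹) := by group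
      · rintro _ ⟨l, hl, rfl⟩
        refine w.mem_L₂ (mul_mem (mul_mem hg (w.L₁_le hl)) (inv_mem hg)) fun v hv => ?_
        obtain ⟨x, rfl⟩ := (M₁.mem_iff v).1 hv
        have e1 := hsw.2 (x ∘ q)
        have e2 : (x ∘ q) ∘ q.symm = x := by funext i; simp
        rw [e2] at e1
        have h3 := w.L₁_comm hl (M₂.e_mem (x ∘ q))
        rw [← e1]
        calc g * l * g⁻¹ * (g * M₂.e (x ∘ q) * g⁻¹) = g * (l * M₂.e (x ∘ q)) * g⁻¹ := by group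
          _ = g * (M₂.e (x ∘ q) * l) * g⁻¹ := by rw [h3]
          _ = g * M₂.e (x ∘ q) * g⁻¹ * (g * l * g⁻¹) := by group
  have h1 := NO3b.UMethod.not_dvd_inf w.S_le hSy hXP hnX
  -- `L₁` is normal in `X`
  have hX1 : L₁ ⊔ L₂ ≤ normalizer (L₁ : Set G) := by
    refine sup_le le_normalizer ?_
    intro g hg
    refine MinSimple.VModule.mem_normalizer_of_map_le ?_
    rintro _ ⟨l, hl, rfl⟩
    obtain ⟨q, hq⟩ := M₂.exists_ind hg
    exact w.conj_L₁ (w.L₂_le hg) hq hl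
  have h2 := NO3b.UMethod.not_dvd_inf (inf_le_left : (L₁ ⊔ L₂) ⊓ (S : Subgroup G) ≤ L₁ ⊔ L₂) h1
    (le_sup_left : L₁ ≤ L₁ ⊔ L₂) hX1
  have e2 : L₁ ⊓ ((L₁ ⊔ L₂) ⊓ (S : Subgroup G)) = L₁ ⊓ (S : Subgroup G) := by
    rw [← inf_assoc, inf_eq_left.2 (le_sup_left : L₁ ≤ L₁ ⊔ L₂)]
  rw [e2] at h2
  -- `N ∩ L₁`
  have h3 := NO3b.UMethod.not_dvd_inf (inf_le_left : L₁ ⊓ (S : Subgroup G) ≤ L₁) h2
    (inf_le_right : N ⊓ L₁ ≤ L₁) (by
      intro g hg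
      refine MinSimple.VModule.mem_normalizer_of_map_le ?_
      rintro _ ⟨l, hl, rfl⟩
      exact mem_inf.2 ⟨(mem_normalizer_iff.1 (h.nor (w.L₁_le hg)) _).1 hl.1,
        L₁.mul_mem (L₁.mul_mem hg hl.2) (L₁.inv_mem hg)⟩)
  have e3 : N ⊓ L₁ ⊓ (L₁ ⊓ (S : Subgroup G)) = N ⊓ L₁ ⊓ (S : Subgroup G) := by
    rw [← inf_assoc, inf_assoc N L₁ L₁, inf_idem]
  rw [e3] at h3
  -- `R₁`
  have h4 := NO3b.UMethod.not_dvd_inf (inf_le_left : N ⊓ L₁ ⊓ (S : Subgroup G) ≤ N ⊓ L₁) h3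
    (RR_le : RR M₁ N m ≤ N ⊓ L₁) (by
      intro k hk
      refine MinSimple.VModule.mem_normalizer_of_map_le ?_
      rintro _ ⟨l, hl, rfl⟩
      have hkm := h.com k⁻¹ (inv_mem hk.1)
      rw [inv_inv] at hkm
      exact h.conj_RR (h.le hk.1) (M₁.le_normalizer hk.2) hkm hl)
  have e4 : RR M₁ N m ⊓ (N ⊓ L₁ ⊓ (S : Subgroup G)) = RR M₁ N m ⊓ (S : Subgroup G) := by
    rw [← inf_assoc, inf_eq_left.2 RR_le]
  rwa [e4] at h4

/-- Averaging: `R₁` centralises `m v₁` for some `v₁ ∈ V₁`. -/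
theorem NH.exists_fixed {N : Subgroup G} (h : NH w m N) (hm : MD w m) :
    ∃ v ∈ V₁, ∀ g ∈ RR M₁ N m, g * (m * v) = m * v * g := by
  have hcm : ∀ v ∈ V₁, m⁻¹ * v * m = v := by
    intro v hv
    have := hm.comm_V₁ hv
    rw [mul_assoc, this, inv_mul_cancel_left]
  obtain ⟨v, hv, h1⟩ := BTwo.Avg.avg (X := RR M₁ N m) (P := RR M₁ N m ⊓ (S : Subgroup G)) (Y := V₁) (D := ⊥)
    (c := m) inf_le_left (Nat.odd_iff.2 (Nat.two_dvd_ne_zero.1 h.not_dvd)) bot_le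
    (fun x hx y hy => (mem_normalizer_iff.1 (M₁.le_normalizer hx.1.2) _).1 hy)
    (fun x _ y hy => by rw [mem_bot.1 hy]; simp) (fun x _ y hy => by rw [mem_bot.1 hy]; simp)
    (fun y hy => mem_bot.2 (M₁.sq hy))
    (fun x hx => by
      have e : m⁻¹ * x * m * x⁻¹ = m⁻¹ * (x * m * x⁻¹ * m⁻¹) * m := by group
      rw [e, hcm _ hx.2]
      exact hx.2)
    (fun x hx => by
      have e : m⁻¹ * x * m * x⁻¹ = m⁻¹ * (x * m) * x⁻¹ := by group
      rw [e, hm.comm_of ⟨hx.2, M₁.le_normalizer hx.1.1.2⟩ hx.1.2, mem_bot]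
      group)
  refine ⟨v, hv, fun g hg => ?_⟩
  have h2 := mem_bot.1 (h1 g hg)
  rw [mul_inv_eq_one] at h2
  calc g * (m * v) = (m * v) * ((m * v)⁻¹ * g * (m * v)) := by group
    _ = m * v * g := by rw [h2]

/-- **(2)** `m ∈ V`. -/
theorem NH.mem {N : Subgroup G} (h : NH w m N) (hm : MD w m) : m ∈ zl (S : Subgroup G) P := by
  obtain ⟨v₁, hv₁, h1⟩ := h.exists_fixed hm
  obtain ⟨v₂, hv₂, h2⟩ := h.symm.exists_fixed hm.symm
  have hV1 := w.V₁_le hv₁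
  have hV2 := w.V₂_le hv₂
  have c12 : v₁ * v₂ = v₂ * v₁ := w.comm hv₁ hv₂
  have cm1 : v₁ * m = m * v₁ := hm.comm_V hV1
  have cm2 : v₂ * m = m * v₂ := hm.comm_V hV2
  set w₀ := m * v₁ * v₂ with hw₀
  -- `R₁`, `R₂` centralise `w₀`
  have f1 : ∀ g ∈ RR M₁ N m, g * w₀ = w₀ * g := by
    intro g hg
    have h3 := w.L₁_comm hg.1.2 hv₂
    calc g * w₀ = g * (m * v₁) * v₂ := by rw [hw₀]; group
      _ = m * v₁ * (g * v₂) := by rw [h1 g hg]; group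
      _ = w₀ * g := by rw [h3, hw₀]; group
  have f2 : ∀ g ∈ RR M₂ N m, g * w₀ = w₀ * g := by
    intro g hg
    have h3 := w.L₂_comm hg.1.2 hv₁
    have e : w₀ = m * v₂ * v₁ := by rw [hw₀, mul_assoc, c12]; group
    calc g * w₀ = g * (m * v₂) * v₁ := by rw [e]; group
      _ = m * v₂ * (g * v₁) := by rw [h2 g hg]; group
      _ = w₀ * g := by rw [h3, e]; group
  -- an element of `V` centralised by `R₁` and `R₂` is trivial
  have fV : ∀ v ∈ zl (S : Subgroup G) P, (∀ g ∈ RR M₁ N m, g * v = v * g) →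
      (∀ g ∈ RR M₂ N m, g * v = v * g) → v = 1 := by
    intro v hv k1 k2
    obtain ⟨a, ha, b, hb, rfl⟩ := w.mem_V hv
    have ha1 : a = 1 := by
      refine h.fixed ha fun g hg => ?_
      have h3 := w.L₁_comm hg.1.2 hb
      have h4 := k1 g hg
      refine mul_right_cancel (b := b) ?_
      calc g * a * b = a * b * g := by rw [mul_assoc, h4]
        _ = a * (g * b) := by rw [h3, mul_assoc]
        _ = a * g * b := by group
    have hb1 : b = 1 := by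
      refine h.symm.fixed hb fun g hg => ?_
      have h4 := k2 g hg
      rwa [ha1, one_mul] at h4
    rw [ha1, hb1, one_mul]
  -- `S₁` centralises `w₀`
  have hS : ∀ x ∈ (S : Subgroup G) ⊓ normalizer (V₁ : Set G), x * w₀ * x⁻¹ = w₀ := by
    intro x hx
    have hx' : x ∈ (S : Subgroup G) ⊓ normalizer (V₂ : Set G) := by rw [← w.S₁_eq]; exact hx
    have hxP := w.S_le hx.1
    have hxV := le_normalizer_zl (S : Subgroup G) P hxP
    have hmx : ∀ y ∈ (S : Subgroup G) ⊓ normalizer (V₁ : Set G), y * m * y⁻¹ * m⁻¹ ∈ zl (S : Subgroup G) P := by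
      intro y hy
      rcases hm.com y hy with h3 | h3
      · rw [h3, mul_inv_cancel]; exact one_mem _
      · rw [h3, mul_inv_cancel_right]
        exact mul_mem (w.V₁_le (M₁.e_mem _)) (w.V₂_le (M₂.e_mem _))
    have hmx' : x⁻¹ * m * x * m⁻¹ ∈ zl (S : Subgroup G) P := by
      have := hmx x⁻¹ (inv_mem hx)
      rwa [inv_inv] at this
    have hmx'' : x * m * x⁻¹ * m⁻¹ ∈ zl (S : Subgroup G) P := hmx x hx
    have key : x * w₀ * x⁻¹ * w₀⁻¹ ∈ zl (S : Subgroup G) P := by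
      have hv12 : v₁ * v₂ ∈ zl (S : Subgroup G) P := mul_mem hV1 hV2
      have h3 : x * (v₁ * v₂) * x⁻¹ ∈ zl (S : Subgroup G) P := (mem_normalizer_iff.1 hxV _).1 hv12
      have h4 : (v₁ * v₂)⁻¹ * (x * (v₁ * v₂) * x⁻¹) ∈ zl (S : Subgroup G) P := mul_mem (inv_mem hv12) h3
      have h5 : m * (x * (v₁ * v₂) * x⁻¹ * (v₁ * v₂)⁻¹) = x * (v₁ * v₂) * x⁻¹ * (v₁ * v₂)⁻¹ * m :=
        (hm.comm_V (mul_mem h3 (inv_mem hv12))).symm
      have e : x * w₀ * x⁻¹ * w₀⁻¹ =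
          (x * m * x⁻¹ * m⁻¹) * (x * (v₁ * v₂) * x⁻¹ * (v₁ * v₂)⁻¹) := by
        calc x * w₀ * x⁻¹ * w₀⁻¹ = (x * m * x⁻¹) * (x * (v₁ * v₂) * x⁻¹ * (v₁ * v₂)⁻¹) * m⁻¹ := by
              rw [hw₀]; group
          _ = (x * m * x⁻¹ * m⁻¹) * (m * (x * (v₁ * v₂) * x⁻¹ * (v₁ * v₂)⁻¹)) * m⁻¹ := by group
          _ = _ := by rw [h5]; group
      rw [e]
      exact mul_mem hmx'' (mul_mem h3 (inv_mem hv12))
    have cj1 : ∀ g ∈ RR M₁ N m, g * (x * w₀ * x⁻¹) = x * w₀ * x⁻¹ * g := by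
      intro g hg
      have h3 : x⁻¹ * g * x ∈ RR M₁ N m := by
        have := h.conj_RR (k := x⁻¹) (inv_mem hxP) (inv_mem hx.2) (by rw [inv_inv]; exact hmx'') hg
        rwa [inv_inv] at this
      have h4 := f1 _ h3
      calc g * (x * w₀ * x⁻¹) = x * ((x⁻¹ * g * x) * w₀) * x⁻¹ := by group
        _ = x * (w₀ * (x⁻¹ * g * x)) * x⁻¹ := by rw [h4]
        _ = x * w₀ * x⁻¹ * g := by group
    have cj2 : ∀ g ∈ RR M₂ N m, g * (x * w₀ * x⁻¹) = x * w₀ * x⁻¹ * g := by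
      intro g hg
      have h3 : x⁻¹ * g * x ∈ RR M₂ N m := by
        have := h.symm.conj_RR (k := x⁻¹) (inv_mem hxP) (inv_mem hx'.2) (by rw [inv_inv]; exact hmx'') hg
        rwa [inv_inv] at this
      have h4 := f2 _ h3
      calc g * (x * w₀ * x⁻¹) = x * ((x⁻¹ * g * x) * w₀) * x⁻¹ := by group
        _ = x * (w₀ * (x⁻¹ * g * x)) * x⁻¹ := by rw [h4]
        _ = x * w₀ * x⁻¹ * g := by group
    have hcom : ∀ {g a b : G}, g * a = a * g → g * b = b * g → g * (a * b⁻¹) = a * b⁻¹ * g := by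
      intro g a b ha hb
      have hb' : g * b⁻¹ = b⁻¹ * g := by
        calc g * b⁻¹ = b⁻¹ * (b * g) * b⁻¹ := by group
          _ = b⁻¹ * (g * b) * b⁻¹ := by rw [hb]
          _ = b⁻¹ * g := by group
      rw [← mul_assoc, ha, mul_assoc, hb', mul_assoc]
    have h6 := fV _ key (fun g hg => hcom (cj1 g hg) (f1 g hg)) fun g hg => hcom (cj2 g hg) (f2 g hg)
    rwa [mul_inv_eq_one] at h6
  -- `w₀ ∈ Ω₁(Z(S₁)) ≤ V`
  have hwS : w₀ ∈ (S : Subgroup G) ⊓ normalizer (V₁ : Set G) :=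
    mul_mem (mul_mem hm.mem (w.V₁_le_S₁ hv₁)) (w.V₂_le_S₁ hv₂)
  have hw2 : w₀ * w₀ = 1 := by
    calc w₀ * w₀ = m * v₁ * (v₂ * m) * (v₁ * v₂) := by rw [hw₀]; group
      _ = m * (v₁ * m) * (v₂ * (v₁ * v₂)) := by rw [cm2]; group
      _ = (m * m) * v₁ * (v₂ * (v₂ * v₁)) := by rw [cm1, c12]; group
      _ = (m * m) * v₁ * ((v₂ * v₂) * v₁) := by group
      _ = 1 := by rw [hm.sq, M₂.sq hv₂, one_mul]; exact M₁.sq hv₁
  have hz : w₀ ∈ zc ((S : Subgroup G) ⊓ normalizer (V₁ : Set G)) := by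
    refine mem_zc.2 ⟨hwS, fun b hb => ?_, by rw [pow_two]; exact hw2⟩
    have := hS b hb
    rwa [mul_inv_eq_iff_eq_mul] at this
  have hwV : w₀ ∈ zl (S : Subgroup G) P := by
    rcases w.zS₁_le hz with h3 | h3 | h3 | h3
    · rw [h3]; exact one_mem _
    · rw [h3]; exact w.V₁_le (M₁.e_mem _)
    · rw [h3]; exact w.V₂_le (M₂.e_mem _)
    · rw [h3]; exact mul_mem (w.V₁_le (M₁.e_mem _)) (w.V₂_le (M₂.e_mem _))
  have e : m = w₀ * (v₁ * v₂)⁻¹ := by rw [hw₀]; group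
  rw [e]
  exact mul_mem hwV (inv_mem (mul_mem hV1 hV2))

end md

/-! ### Offenders -/

section off

variable [Finite G] (w : Wr S P M₁ M₂)

/-- Offenders in `S` act on the factors as subgroups of `⟨(0 1), (2 3)⟩`, and contain a transposition of one factor. -/
def OffW (_ : Wr S P M₁ M₂) : Prop :=
  ∀ A : Subgroup G, A ≤ (S : Subgroup G) → Off (zl (S : Subgroup G) P) A →
    (∀ a ∈ A, (∃ p, TTp p ∧ M₁.Ind a p) ∧ ∃ q, TTp q ∧ M₂.Ind a q) ∧
      ((∃ b ∈ A ⊓ L₁, ∃ i j, i ≠ j ∧ M₁.Ind b (Equiv.swap i j)) ∨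
        ∃ b ∈ A ⊓ L₂, ∃ i j, i ≠ j ∧ M₂.Ind b (Equiv.swap i j))

include w

/-- the elements of `𝒜(S)` centralise `n` and normalise `V₁` -/
theorem comm_of_AA (hoff : OffW w) {A : Subgroup G} (hA : A ∈ Cfsg.Agent.ZN.ChoiceBase.AA (S : Subgroup G)) {a : G}
    (ha : a ∈ A) : a * M₁.e nn = M₁.e nn * a ∧ a ∈ normalizer (V₁ : Set G) := by
  by_cases hn : A ≤ o2 P
  · have h1 : ∀ v ∈ V₁, a * v = v * a := fun v hv => JPush.comm_V w.hG w.star (hn ha) (w.V₁_le hv)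
    exact ⟨h1 _ (M₁.e_mem _), centralizer_le_normalizer _ (mem_centralizer_iff.2 fun v hv => (h1 v hv).symm)⟩
  · obtain ⟨⟨p, hp, hi⟩, -⟩ := (hoff A hA.2.1 (JPush.off w.hG w.star hA hn)).1 a ha
    exact ⟨(hi.commute_iff _).2 (Or.inl (ttp_nn p hp)), hi.mem_normalizer⟩

/-- `J(S) ≤ S₁` -/
theorem jj_le_S₁ (hoff : OffW w) : jj (S : Subgroup G) ≤ (S : Subgroup G) ⊓ normalizer (V₁ : Set G) := by
  rw [Cfsg.Agent.ZN.ChoiceBase.jj_eq]
  exact sSup_le fun A hA a ha => ⟨hA.2.1 ha, (w.comm_of_AA hoff hA ha).2⟩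

/-- `n ∈ Ω₁(Z(J(S)))` -/
theorem n_mem_zj (hoff : OffW w) (hno : NoOver (zl (S : Subgroup G) P) P) : M₁.e nn ∈ zj (S : Subgroup G) := by
  refine Cfsg.Agent.ZN.ChoiceBase.mem_zj.2 ⟨JPush.V_le_jj w.hG w.star hno (w.V₁_le (M₁.e_mem _)), e_sq' M₁ nn, fun y hy => ?_⟩
  have h1 : jj (S : Subgroup G) ≤ centralizer ({M₁.e nn} : Set G) := by
    rw [Cfsg.Agent.ZN.ChoiceBase.jj_eq]
    exact sSup_le fun A hA a ha => mem_C.2 (w.comm_of_AA hoff hA ha).1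
  exact mem_C.1 (h1 hy)

/-- **THEOREM TRI-J** (helper644): in the triangle `J(S) ≤ O₂(P)`. -/
theorem jj_le_of_tri (hoff : OffW w) (hno : NoOver (zl (S : Subgroup G) P) P)
    (htri : 2 ∣ ((S : Subgroup G) ⊓ normalizer (V₁ : Set G)).relIndex (centralizer ({M₁.e ss} : Set G))) :
    jj (S : Subgroup G) ≤ o2 P := by
  by_contra hJ
  obtain ⟨u, hu, hcom, x, hx, hxm⟩ := w.exists_m htri
  set m := u * M₁.e nn * u⁻¹ with hm
  have hMD : MD w m := by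
    refine ⟨(mem_normalizer_iff.1 hu _).1 (w.V₁_le_S₁ (M₁.e_mem nn)), ?_, hcom⟩
    calc m * m = u * (M₁.e nn * M₁.e nn) * u⁻¹ := by rw [hm]; group
      _ = 1 := by rw [M₁.e_sq]; group
  -- `m ∈ Z_J`
  have hjj := w.jj_le_S₁ hoff
  have hzj : zj ((S : Subgroup G) ⊓ normalizer (V₁ : Set G)) = zj (S : Subgroup G) :=
    Cfsg.Agent.ZN.zj_eq_of_le hjj inf_le_left
  have hmz : m ∈ zj (S : Subgroup G) := by
    have h1 := w.n_mem_zj hoff hno
    rw [← hzj] at h1 ⊢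
    exact (mem_normalizer_iff.1 (Cfsg.Agent.ZN.normalizer_le_normalizer_zj _ hu) _).1 h1
  obtain ⟨N, hNP, hPN, -, hJN, hN⟩ := JPush.exists_push w.hG w.star hno hJ
  have hcomN : ∀ g ∈ N, g * m * g⁻¹ * m⁻¹ ∈ zl (S : Subgroup G) P := fun g hg =>
    hN g hg m (JPush.zj_le w.hG w.star hno hmz)
  have hmV : m ∈ zl (S : Subgroup G) P := by
    obtain ⟨A, hA, hn⟩ : ∃ A ∈ Cfsg.Agent.ZN.ChoiceBase.AA (S : Subgroup G), ¬ A ≤ o2 P := by
      by_contra hc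
      push Not at hc
      apply hJ
      rw [Cfsg.Agent.ZN.ChoiceBase.jj_eq]
      exact sSup_le hc
    have hAN : A ≤ N := (Cfsg.Agent.ZN.ChoiceBase.le_jj hA).trans hJN
    rcases (hoff A hA.2.1 (JPush.off w.hG w.star hA hn)).2 with ⟨b, hb, i, j, hij, hi⟩ | ⟨b, hb, i, j, hij, hi⟩
    · exact (NH.mem (w := w) (N := N) ⟨hNP, hPN, hcomN, b, ⟨hAN hb.1, hb.2⟩, i, j, hij, hi⟩ hMD)
    · exact (NH.mem (w := w.symm) (N := N) ⟨hNP, hPN, hcomN, b, ⟨hAN hb.1, hb.2⟩, i, j, hij, hi⟩ hMD.symm)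
  exact hxm (by rw [hMD.comm_of_mem hmV hx, mul_inv_cancel_right])

end off

end Wr

/-! ### From `SymK` -/

section symk

open Cfsg.Agent.Omega.IId.LFour.SymF

variable [Finite G] {S : Sylow 2 G} {P : Subgroup G}

theorem inv_app {α : Type*} (ρ : Equiv.Perm α) (x : α) : ρ⁻¹ (ρ x) = x := ρ.symm_apply_apply x

theorem app_inv {α : Type*} (ρ : Equiv.Perm α) (x : α) : ρ (ρ⁻¹ x) = x := ρ.apply_symm_apply x

theorem relabel_ind_of_acts {T H V : Subgroup G} {k : ℕ} (M : SymK T H V ⊥ k 2) (hA : Amb T H V) {g : G}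
    (hg : g ∈ H) {τ : Fin k → Equiv.Perm (Fin 5)} (h : ActsSym M.e V g 1 τ) (l : Fin k)
    (ρ : Equiv.Perm (Fin 5)) : ((md M hA l).relabel ρ).Ind g (ρ⁻¹ * τ l * ρ) := by
  intro x
  have h1 : g * lab M (by norm_num) l (x ∘ ρ.symm) * g⁻¹ =
      lab M (by norm_num) ((1 : Equiv.Perm (Fin k)) l) ((x ∘ ρ.symm) ∘ (τ l).symm) :=
    conj_lab M _ (hA.HV hg) h l (x ∘ ρ.symm)
  refine h1.trans ?_
  change lab M (by norm_num : 1 ≤ 2) l _ = lab M (by norm_num : 1 ≤ 2) l (_ ∘ ρ.symm)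
  congr 1
  funext z
  change x (ρ⁻¹ ((τ l)⁻¹ z)) = x ((ρ⁻¹ * τ l * ρ)⁻¹ (ρ⁻¹ z))
  rw [← Equiv.Perm.mul_apply, ← Equiv.Perm.mul_apply]
  congr 2
  group

/-- the offenders of `SymK S P V ⊥ 2 2` -/
theorem offW_of (hG : IsCharacteristicTwoType G) (hP : IsParS (S : Subgroup G) P)
    (M : SymK (S : Subgroup G) P (zl (S : Subgroup G) P) ⊥ 2 2) {i j : Fin 2} (hij : i ≠ j)
    {σ₁ σ₂ : Equiv.Perm (Fin 5)} (w : Wr S P ((md M (amb_of_loc hG S hP.isLoc) i).relabel σ₁)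
      ((md M (amb_of_loc hG S hP.isLoc) j).relabel σ₂)) : w.OffW := by
  classical
  intro A hAS hoff
  have hA := amb_of_loc hG S hP.isLoc
  have hSP : (S : Subgroup G) ≤ P := hP.isLoc.le
  obtain ⟨-, hact⟩ := M.off A hAS hoff
  have key : ∀ {l : Fin 2} {ρ : Equiv.Perm (Fin 5)}
      (_ : ∀ g ∈ (S : Subgroup G), ∀ p, ((md M hA l).relabel ρ).Ind g p → p * dd = dd * p)
      {a : G} (_ : a ∈ A), ∃ p, TTp p ∧ ((md M hA l).relabel ρ).Ind a p := by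
    intro l ρ hd a ha
    obtain ⟨τ, h1, h2⟩ := hact a ha
    refine ⟨ρ⁻¹ * τ l * ρ, ttp_of_swaps _ fun x hx => ?_, relabel_ind_of_acts M hA (hSP (hAS ha)) h1 l ρ⟩
    have hx' : τ l (ρ x) ≠ ρ x := by
      intro h3
      apply hx
      rw [Equiv.Perm.mul_apply, Equiv.Perm.mul_apply, h3, inv_app]
    obtain ⟨h4, b, hb, h5⟩ := h2 l (ρ x) hx'
    refine ⟨?_, ?_⟩
    · change ρ⁻¹ (τ l (ρ (ρ⁻¹ (τ l (ρ x))))) = x
      rw [app_inv, h4, inv_app]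
    · have h6 := relabel_ind_of_acts M hA (hSP (hAS hb)) h5 l ρ
      rw [Function.update_self] at h6
      have h7 := hd b (hAS hb) _ h6
      have e : ρ⁻¹ * Equiv.swap (ρ x) (τ l (ρ x)) * ρ = Equiv.swap x ((ρ⁻¹ * τ l * ρ) x) := by
        have h8 := Equiv.swap_apply_apply ρ⁻¹ (ρ x) (τ l (ρ x))
        rw [inv_app, inv_inv] at h8
        rw [← h8]
        rfl
      rwa [e] at h7
  refine ⟨fun a ha => ⟨key (fun g hg p => w.dS hSP hg) ha, key (fun g hg p => w.symm.dS hSP hg) ha⟩, ?_⟩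
  -- a transposition
  have hex : ∃ (l : Fin 2) (b : G) (_ : b ∈ A) (x y : Fin 5), x ≠ y ∧
      ActsSym M.e (zl (S : Subgroup G) P) b 1 (Function.update 1 l (Equiv.swap x y)) := by
    by_contra hcon
    push Not at hcon
    apply hoff.ne
    intro a ha
    obtain ⟨τ, h1, h2⟩ := hact a ha
    have hτ : ∀ l x, τ l x = x := by
      intro l x
      by_contra hx
      obtain ⟨h4, b, hb, h5⟩ := h2 l x hx
      exact hcon l b hb x (τ l x) (Ne.symm hx) h5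
    rw [mem_centralizer_iff]
    intro v hv
    have h3 : a * v * a⁻¹ = v := by
      refine SymF.inj M (hA.conj_mem (hSP (hAS ha)) hv) hv ?_
      funext l x
      have := h1 v hv l x
      rw [hτ] at this
      exact this
    calc v * a = a * v * a⁻¹ * a := by rw [h3]
      _ = a * v := by group
  obtain ⟨l, b, hb, x, y, hxy, hact'⟩ := hex
  have hbP := hSP (hAS hb)
  have tr : ∀ {l l' : Fin 2} {ρ ρ' : Equiv.Perm (Fin 5)} (_ : l ≠ l')
      (_ : ActsSym M.e (zl (S : Subgroup G) P) b 1 (Function.update 1 l (Equiv.swap x y))),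
      ((md M hA l).relabel ρ).Ind b (Equiv.swap (ρ⁻¹ x) (ρ⁻¹ y)) ∧
        ((md M hA l').relabel ρ').Ind b 1 := by
    intro l l' ρ ρ' hll h
    have h1 := relabel_ind_of_acts M hA hbP h l ρ
    have h2 := relabel_ind_of_acts M hA hbP h l' ρ'
    rw [Function.update_self] at h1
    rw [Function.update_of_ne (Ne.symm hll)] at h2
    refine ⟨?_, ?_⟩
    · have h8 := Equiv.swap_apply_apply ρ⁻¹ x y
      rw [inv_inv] at h8
      rw [h8]
      exact h1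
    · have e : ρ'⁻¹ * (1 : Fin 2 → Equiv.Perm (Fin 5)) l' * ρ' = 1 := by
        rw [Pi.one_apply]; group
      rwa [e] at h2
  by_cases hl : l = i
  · subst hl
    left
    obtain ⟨h1, h2⟩ := tr (ρ := σ₁) (ρ' := σ₂) hij hact'
    refine ⟨b, ⟨hb, w.mem_L₁ hbP fun v hv => ?_⟩, σ₁⁻¹ x, σ₁⁻¹ y, fun h => hxy (σ₁⁻¹.injective h), h1⟩
    exact (mem_centralizer_iff.1 (FiveMod.ind_one_iff.1 h2) v hv).symm
  · have hl' : l = j := by omega
    subst hl'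
    right
    obtain ⟨h1, h2⟩ := tr (ρ := σ₂) (ρ' := σ₁) hij.symm hact'
    refine ⟨b, ⟨hb, w.mem_L₂ hbP fun v hv => ?_⟩, σ₂⁻¹ x, σ₂⁻¹ y, fun h => hxy (σ₂⁻¹.injective h), h1⟩
    exact (mem_centralizer_iff.1 (FiveMod.ind_one_iff.1 h2) v hv).symm

/-- **THEOREM TRI-J for `SymK S P V ⊥ 2 2`.** -/
theorem jj_le_of_tri (hG : IsCharacteristicTwoType G) (hP : IsParS (S : Subgroup G) P)
    (hno : NoOver (zl (S : Subgroup G) P) P)
    (M : SymK (S : Subgroup G) P (zl (S : Subgroup G) P) ⊥ 2 2) {i j : Fin 2} (hij : i ≠ j)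
    {σ₁ σ₂ : Equiv.Perm (Fin 5)} (w : Wr S P ((md M (amb_of_loc hG S hP.isLoc) i).relabel σ₁)
      ((md M (amb_of_loc hG S hP.isLoc) j).relabel σ₂))
    (htri : 2 ∣ ((S : Subgroup G) ⊓ normalizer (fac M i : Set G)).relIndex
      (centralizer ({((md M (amb_of_loc hG S hP.isLoc) i).relabel σ₁).e ss} : Set G))) :
    jj (S : Subgroup G) ≤ o2 P :=
  w.jj_le_of_tri (offW_of hG hP M hij w) hno htri

end symk

end Cfsg.Agent.Omega.IId.LFour

end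

-- merged: Cfsg.Agent.Mrg.Omega.IId.LFour.TriP
section

section


/-!
# THEOREM TRI (helper644 #17091) (1): the triangle leads to NO-3S or to a local subgroup

`w : Wr S P M₁ M₂`, `S₁ = N_S(V₁)`, `Y₀ = Ω₁(Z(S₁)) = ⟨σ₁, σ₂⟩`, `z = σ₁ σ₂`; `S₁` is not a Sylow 2-subgroup of
`C_G(σ₁)`.

* `Wr.zcS_eq`, `Wr.mem_CZ` : `Ω₁(Z(S)) = ⟨z⟩`, `C_G(Ω₁(Z(S))) = C_G(z)`;
* `Wr.exists_T` : `T₁` a Sylow 2-subgroup of `C_G(σ₁)` (and of `G`), `S₁ < T₁ ≤ N_G(S₁)`, `t ∈ T₁` maps `σ₂` to `z`;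
* `Wr.o2_le_S₁` : `O₂(C_G(y)) ≤ S₁` for `1 ≠ y ∈ Y₀`; `Wr.exists_conj` : `N_G(S₁)` is transitive on `Y₀#`;
* `Wr.exists_P₃` : `P₃ ∈ P*(S)`, `P₃ ≤ N_G(S₁)`, `V_{P₃} = Y₀`, `|Y₀| = 4`, `⟨Y₀^{C_G(z)}⟩` abelian;
* `Wr.TriH w H` : `S ≤ H` 2-local, `N_G(S₁) ≤ H`, `C_G(y) ≤ H` for `1 ≠ y ∈ Y₀`;
* `Wr.known_of_tri` : if no `TriH w H` exists, then `G` is known (NO-3S, `|V_P| = 4`).
-/

set_option autoImplicit false
set_option linter.unusedSectionVars false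

namespace Cfsg.Agent.Omega.IId.LFour

open Subgroup Pointwise Cfsg Cfsg.Agent.Omega.MinPar Cfsg.Agent.Omega.FFThm
open Cfsg.Agent.ZN (o2 zc jj zj zl zc_map)
open Cfsg.Agent.ZN.ChoiceBase (cj mem_cj)
open Cfsg.Agent.ZN.ChoiceSit (exists_syl syl_not_dvd)
open Cfsg.Agent.Omega.S5.Mod Cfsg.Agent.Omega.S5.TT
open Cfsg.Agent.Omega.S5.TT.Pos (na ns as sn n_ne s_ne a_ne n_ne_a n_ne_s a_ne_s e_sq' mem_C)
open Cfsg.Agent.Omega.Half (Amb amb_of_loc)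
open Cfsg.Agent.MinSimple.VModule (mem_zc zc_le zc_comm zc_sq zc_le_zl le_normalizer_o2 o2_isPGroup o2_le
  normalizer_le_normalizer_zc le_normalizer_zl zl_le le_o2 le_centralizer_zc)
open Cfsg.Agent.Omega.Frame (Ctx Full Cls)
open Cfsg.Agent.Omega.FrameNOFF (CZ)
open Cfsg.Agent.Omega.NO3S (WW Hyp)
open Cfsg.Agent.Omega.IId.Triangle (o2_cent_conj cent_conj)

universe u

variable {G : Type u} [Group G]

namespace Wr

variable {S : Sylow 2 G} {P V₁ V₂ L₁ L₂ : Subgroup G} {M₁ : FiveMod V₁ L₁} {M₂ : FiveMod V₂ L₂}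

section fin

variable [Finite G] (w : Wr S P M₁ M₂)
include w

/-! ### `Y₀` -/

omit [Finite G] in
theorem z_ne : M₁.e ss * M₂.e ss ≠ 1 := fun h => w.z_not_mem (by rw [h]; exact one_mem _)

theorem s_comm : M₁.e ss * M₂.e ss = M₂.e ss * M₁.e ss := w.comm (M₁.e_mem _) (M₂.e_mem _)

theorem z_mem_zcS : M₁.e ss * M₂.e ss ∈ zc (S : Subgroup G) := by
  obtain ⟨x, hx⟩ := Subgroup.ne_bot_iff_exists_ne_one.1
    (MinSimple.Basic.zc_ne_bot S.isPGroup' (fun h => s_ne M₁ (by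
      have h1 := w.V₁_le_S (M₁.e_mem ss)
      rw [h, mem_bot] at h1
      exact h1)))
  rcases w.zS_le x.2 with h | h
  · exact absurd (Subtype.ext h) hx
  · rw [← h]; exact x.2

theorem mem_CZ {x : G} : x ∈ CZ (S : Subgroup G) ↔ x * (M₁.e ss * M₂.e ss) = M₁.e ss * M₂.e ss * x := by
  rw [mem_centralizer_iff]
  constructor
  · intro h
    exact (h _ w.z_mem_zcS).symm
  · intro h y hy
    rcases w.zS_le hy with rfl | rfl
    · rw [one_mul, mul_one]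
    · exact h.symm

theorem CZ_eq : CZ (S : Subgroup G) = centralizer ({M₁.e ss * M₂.e ss} : Set G) := by
  ext x
  rw [w.mem_CZ, mem_C]

/-- a Sylow 2-subgroup `T₁` of `G` with `S₁ < T₁ ≤ C_G(σ₁)` -/
theorem exists_T (htri : 2 ∣ ((S : Subgroup G) ⊓ normalizer (V₁ : Set G)).relIndex
      (centralizer ({M₁.e ss} : Set G))) :
    ∃ T : Sylow 2 G, (S : Subgroup G) ⊓ normalizer (V₁ : Set G) ≤ (T : Subgroup G) ∧
      (T : Subgroup G) ≤ centralizer ({M₁.e ss} : Set G) ∧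
      (T : Subgroup G) ≤ normalizer (((S : Subgroup G) ⊓ normalizer (V₁ : Set G) : Subgroup G) : Set G) ∧
      ∀ t ∈ (T : Subgroup G), t ∉ (S : Subgroup G) ⊓ normalizer (V₁ : Set G) →
        t * M₂.e ss * t⁻¹ = M₁.e ss * M₂.e ss := by
  have : Fact (Nat.Prime 2) := ⟨Nat.prime_two⟩
  set S₁ := (S : Subgroup G) ⊓ normalizer (V₁ : Set G) with hS₁
  set C := centralizer ({M₁.e ss} : Set G) with hC
  have h2 : IsPGroup 2 S₁ := S.isPGroup'.to_le inf_le_left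
  have hS₁C : S₁ ≤ C := fun x hx => mem_C.2 (w.comm_ss w.S_le hx.1 hx.2)
  obtain ⟨T₁, hT₁, hST⟩ := exists_syl h2 hS₁C
  have hne : ¬ T₁ ≤ S₁ := by
    intro h
    have h3 := syl_not_dvd hT₁
    rw [le_antisymm h hST] at h3
    exact h3 htri
  have hcS := w.card_S₁
  have hpos : 0 < Nat.card S₁ := Nat.card_pos
  have hrel : S₁.relIndex T₁ = 2 := by
    have h3 := card_mul_relIndex hST
    have h4 : Nat.card T₁ ≤ Nat.card (S : Subgroup G) := by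
      obtain ⟨S', hS'⟩ := hT₁.2.1.exists_le_sylow
      exact (card_le_of_le hS').trans (sylow_card_eq S' S).le
    have h5 : S₁.relIndex T₁ ≠ 1 := fun h => hne (relIndex_eq_one.1 h)
    have h6 : S₁.relIndex T₁ ≤ 2 := by
      rw [hcS, ← h3, mul_comm] at h4
      exact Nat.le_of_mul_le_mul_right h4 hpos
    have h7 : S₁.relIndex T₁ ≠ 0 := by
      intro h
      rw [h, mul_zero] at h3
      exact (Nat.card_pos (α := T₁)).ne h3
    omega
  have hcT : Nat.card T₁ = Nat.card (S : Subgroup G) := by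
    rw [hcS, ← card_mul_relIndex hST, hrel, mul_comm]
  have hTn : T₁ ≤ normalizer (S₁ : Set G) := by
    have h3 := normal_of_index_eq_two (H := S₁.subgroupOf T₁) hrel
    exact (normal_subgroupOf_iff_le_normalizer hST).1 h3
  obtain ⟨T, hT⟩ := hT₁.2.1.exists_le_sylow
  have hTT : T₁ = (T : Subgroup G) :=
    Subgroup.eq_of_le_of_card_ge hT (by rw [hcT]; exact (sylow_card_eq T S).le)
  rw [hTT] at hST hTn hrel
  have hTC : (T : Subgroup G) ≤ C := hTT ▸ hT₁.1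
  refine ⟨T, hST, hTC, hTn, fun t ht htS => ?_⟩
  have htn := hTn ht
  have h3 : t * M₁.e ss = M₁.e ss * t := mem_C.1 (hTC ht)
  have h4 : t * M₂.e ss * t⁻¹ ∈ zc S₁ :=
    (mem_normalizer_iff.1 (normalizer_le_normalizer_zc _ htn) _).1 w.s₂_mem
  have h6 : t * M₂.e ss * t⁻¹ ≠ 1 := by
    rw [Ne, mul_inv_eq_one, mul_eq_left]
    exact s_ne M₂
  have h7 : t * M₂.e ss * t⁻¹ ≠ M₁.e ss := by
    intro h8
    apply w.s_ne_s
    have h9 : t⁻¹ * (t * M₂.e ss * t⁻¹) * t = t⁻¹ * M₁.e ss * t := by rw [h8]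
    have h10 : t⁻¹ * M₁.e ss * t = M₁.e ss := by
      rw [mul_assoc, ← h3]; group
    rw [h10] at h9
    rw [← h9]; group
  rcases w.zS₁_le h4 with h8 | h8 | h8 | h8
  · exact absurd h8 h6
  · exact absurd h8 h7
  · exfalso
    rw [mul_inv_eq_iff_eq_mul] at h8
    -- `T` centralises `σ₂`
    have hcen : ∀ y ∈ (T : Subgroup G), y * M₂.e ss = M₂.e ss * y := by
      intro y hy
      by_cases hyS : y ∈ S₁
      · exact w.S₁_comm_s₂ hyS
      · have h9 : y * t⁻¹ ∈ S₁ := by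
          have h10 : (S₁.subgroupOf (T : Subgroup G)).index = 2 := hrel
          have h11 := (mul_mem_iff_of_index_two h10 (a := ⟨y, hy⟩) (b := ⟨t⁻¹, inv_mem ht⟩)).2
            (by
              constructor
              · intro h12; exact absurd (mem_subgroupOf.1 h12) hyS
              · intro h12; exact absurd (inv_mem_iff.1 (mem_subgroupOf.1 h12)) htS)
          exact mem_subgroupOf.1 h11
        have h10 := w.S₁_comm_s₂ h9
        calc y * M₂.e ss = y * t⁻¹ * (t * M₂.e ss) := by group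
          _ = y * t⁻¹ * M₂.e ss * t := by rw [h8]; group
          _ = M₂.e ss * y := by rw [h10]; group
    have hz1 : M₁.e ss ∈ zc (T : Subgroup G) :=
      mem_zc.2 ⟨hST (w.V₁_le_S₁ (M₁.e_mem ss)), fun b hb => mem_C.1 (hTC hb), e_sq' M₁ ss⟩
    have hz2 : M₂.e ss ∈ zc (T : Subgroup G) :=
      mem_zc.2 ⟨hST (w.V₂_le_S₁ (M₂.e_mem ss)), hcen, e_sq' M₂ ss⟩
    obtain ⟨g, hg⟩ := MulAction.exists_smul_eq G S T
    have hzc : zc (T : Subgroup G) = cj g (zc (S : Subgroup G)) := by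
      rw [← hg]; exact zc_map _ (MulAut.conj g).injective _
    rw [hzc, mem_cj] at hz1 hz2
    have h1 : ∀ x : G, x ≠ 1 → g⁻¹ * x * g ≠ 1 := fun x hx h => hx (by
      have : x = g * (g⁻¹ * x * g) * g⁻¹ := by group
      rw [this, h]; group)
    rcases w.zS_le hz1 with h3 | h3
    · exact h1 _ (s_ne M₁) h3
    · rcases w.zS_le hz2 with h4 | h4
      · exact h1 _ (s_ne M₂) h4
      · apply w.s_ne_s
        have h5 := h3.trans h4.symm
        exact mul_left_cancel (mul_right_cancel h5)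
  · exact h8

/-- `C_G(σ₁)` is of characteristic 2. -/
theorem char2_C {T : Sylow 2 G} (hT : (T : Subgroup G) ≤ centralizer ({M₁.e ss} : Set G)) :
    centralizer ({M₁.e ss} : Set G) ⊓ centralizer (o2 (centralizer ({M₁.e ss} : Set G)) : Set G) ≤
      o2 (centralizer ({M₁.e ss} : Set G)) :=
  (isLoc_centralizer T (e_sq' M₁ ss) (s_ne M₁) hT).char2 T w.hG

/-- `O₂(C_G(σ₁)) ≤ S₁` in the triangle. -/
theorem o2_le_S₁ (htri : 2 ∣ ((S : Subgroup G) ⊓ normalizer (V₁ : Set G)).relIndex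
      (centralizer ({M₁.e ss} : Set G))) :
    o2 (centralizer ({M₁.e ss} : Set G)) ≤ (S : Subgroup G) ⊓ normalizer (V₁ : Set G) := by
  obtain ⟨T, hST, hTC, hTn, hmv⟩ := w.exists_T htri
  intro x hx
  by_contra hxS
  have hxT : x ∈ (T : Subgroup G) :=
    le_of_le_normalizer T (o2_isPGroup _) (hTC.trans (le_normalizer_o2 _)) hx
  have h1 := hmv x hxT hxS
  have h2 := mem_centralizer_iff.1 (w.symm.V₁_le_o2_centralizer.2 hx) _ (M₂.e_mem ss)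
  rw [← h2, mul_inv_cancel_right] at h1
  exact s_ne M₁ (mul_eq_right.1 h1.symm)

/-- `N_G(S₁)` is transitive on `Y₀#`. -/
theorem exists_conj (htri : 2 ∣ ((S : Subgroup G) ⊓ normalizer (V₁ : Set G)).relIndex
      (centralizer ({M₁.e ss} : Set G))) {y : G}
    (hy : y ∈ zc ((S : Subgroup G) ⊓ normalizer (V₁ : Set G))) (hy1 : y ≠ 1) :
    ∃ g ∈ normalizer (((S : Subgroup G) ⊓ normalizer (V₁ : Set G) : Subgroup G) : Set G),
      g * M₁.e ss * g⁻¹ = y := by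
  obtain ⟨s, hs, p, q, hsw⟩ := w.swap
  have hs1 := w.sw_ss w.S_le hs hsw
  have hsn := w.S_le_normalizer hs
  obtain ⟨t, ht, h1, h2⟩ := w.exists_tri htri
  rcases w.zS₁_le hy with h | h | h | h
  · exact absurd h hy1
  · exact ⟨1, one_mem _, by rw [h]; group⟩
  · exact ⟨s, hsn, by rw [hs1, h]⟩
  · refine ⟨t * s, mul_mem ht hsn, ?_⟩
    rw [h, ← h2, ← hs1]; group

theorem o2_C_le (htri : 2 ∣ ((S : Subgroup G) ⊓ normalizer (V₁ : Set G)).relIndex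
      (centralizer ({M₁.e ss} : Set G))) {y : G}
    (hy : y ∈ zc ((S : Subgroup G) ⊓ normalizer (V₁ : Set G))) (hy1 : y ≠ 1) :
    o2 (centralizer ({y} : Set G)) ≤ (S : Subgroup G) ⊓ normalizer (V₁ : Set G) := by
  obtain ⟨g, hg, rfl⟩ := w.exists_conj htri hy hy1
  rw [o2_cent_conj]
  rintro _ ⟨x, hx, rfl⟩
  exact (mem_normalizer_iff.1 hg x).1 (w.o2_le_S₁ htri hx)

/-- `Y₀ ≤ Ω₁(Z(O₂(C_G(z))))` -/
theorem zc_le_zc (htri : 2 ∣ ((S : Subgroup G) ⊓ normalizer (V₁ : Set G)).relIndex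
      (centralizer ({M₁.e ss} : Set G))) :
    zc ((S : Subgroup G) ⊓ normalizer (V₁ : Set G)) ≤ zc (o2 (CZ (S : Subgroup G))) := by
  intro x hx
  obtain ⟨h1, h2, h3⟩ := mem_zc.1 hx
  have hzm : M₁.e ss * M₂.e ss ∈ zc ((S : Subgroup G) ⊓ normalizer (V₁ : Set G)) := mul_mem w.s₁_mem w.s₂_mem
  have h4 : ∀ y ∈ o2 (CZ (S : Subgroup G)), y * x = x * y := fun y hy => by
    rw [w.CZ_eq] at hy
    exact h2 y (w.o2_C_le htri hzm w.z_ne hy)
  refine mem_zc.2 ⟨?_, h4, h3⟩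
  have hne : (S : Subgroup G) ≠ ⊥ := fun h => s_ne M₁ (by
      have h1 := w.V₁_le_S (M₁.e_mem ss)
      rw [h, mem_bot] at h1
      exact h1)
  apply (isLoc_centralizer_zc S hne).char2 S w.hG
  exact ⟨w.mem_CZ.2 (zc_comm _ x hx _ hzm), mem_centralizer_iff.2 h4⟩

theorem card_Y₀ : Nat.card (zc ((S : Subgroup G) ⊓ normalizer (V₁ : Set G))) = 4 := by
  classical
  have h1 : (zc ((S : Subgroup G) ⊓ normalizer (V₁ : Set G)) : Set G) =
      (({1, M₁.e ss, M₂.e ss, M₁.e ss * M₂.e ss} : Finset G) : Set G) := by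
    ext x
    rw [SetLike.mem_coe, Finset.mem_coe, Finset.mem_insert, Finset.mem_insert, Finset.mem_insert,
      Finset.mem_singleton]
    constructor
    · exact fun hx => w.zS₁_le hx
    · rintro (rfl | rfl | rfl | rfl)
      · exact one_mem _
      · exact w.s₁_mem
      · exact w.s₂_mem
      · exact mul_mem w.s₁_mem w.s₂_mem
  have h2 : Nat.card (zc ((S : Subgroup G) ⊓ normalizer (V₁ : Set G))) =
      (zc ((S : Subgroup G) ⊓ normalizer (V₁ : Set G)) : Set G).ncard := Nat.card_coe_set_eq _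
  rw [h2, h1, Set.ncard_coe_finset, Finset.card_insert_of_notMem, Finset.card_insert_of_notMem,
    Finset.card_insert_of_notMem, Finset.card_singleton]
  · rw [Finset.mem_singleton]
    intro h3
    exact s_ne M₁ (mul_eq_right.1 h3.symm)
  · rw [Finset.mem_insert, Finset.mem_singleton]
    rintro (h3 | h3)
    · exact w.s_ne_s h3
    · exact s_ne M₂ (mul_eq_left.1 h3.symm)
  · rw [Finset.mem_insert, Finset.mem_insert, Finset.mem_singleton]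
    rintro (h3 | h3 | h3)
    · exact s_ne M₁ h3.symm
    · exact s_ne M₂ h3.symm
    · exact w.z_ne h3.symm

/-- the four-group `Y₀` as `V_{P₃}` -/
theorem exists_P₃ (htri : 2 ∣ ((S : Subgroup G) ⊓ normalizer (V₁ : Set G)).relIndex
      (centralizer ({M₁.e ss} : Set G))) :
    ∃ P₃ : Subgroup G, IsParS (S : Subgroup G) P₃ ∧
      P₃ ≤ normalizer (((S : Subgroup G) ⊓ normalizer (V₁ : Set G) : Subgroup G) : Set G) ∧
      zl (S : Subgroup G) P₃ = zc ((S : Subgroup G) ⊓ normalizer (V₁ : Set G)) ∧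
      (∀ y ∈ zc ((S : Subgroup G) ⊓ normalizer (V₁ : Set G)), y ≠ 1 →
        ∃ g ∈ P₃, g * (M₁.e ss * M₂.e ss) * g⁻¹ = y) ∧
      WW (S : Subgroup G) P₃ ≤ centralizer (WW (S : Subgroup G) P₃ : Set G) := by
  set S₁ := (S : Subgroup G) ⊓ normalizer (V₁ : Set G) with hS₁
  have h2 : IsPGroup 2 S₁ := S.isPGroup'.to_le inf_le_left
  have hzm : M₁.e ss * M₂.e ss ∈ zc S₁ := mul_mem w.s₁_mem w.s₂_mem
  have hS1 : S₁ ≠ ⊥ := fun h => s_ne M₁ (by
      have h1 := w.V₁_le_S₁ (M₁.e_mem ss)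
      rw [← hS₁, h, mem_bot] at h1
      exact h1)
  have hloc : IsLoc (S : Subgroup G) (normalizer (S₁ : Set G)) :=
    isLoc_normalizer S h2 hS1 w.S_le_normalizer
  obtain ⟨s, hs, p, q, hsw⟩ := w.swap
  have hs1 := w.sw_ss w.S_le hs hsw
  have hnot : ¬ normalizer (S₁ : Set G) ≤ normalizer (zc (S : Subgroup G) : Set G) := by
    intro h
    obtain ⟨g, hg, h3⟩ := w.exists_conj htri hzm w.z_ne
    have h4 := (mem_normalizer_iff.1 (h (inv_mem hg)) _).1 w.z_mem_zcS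
    have h5 : g⁻¹ * (M₁.e ss * M₂.e ss) * g⁻¹⁻¹ = M₁.e ss := by rw [← h3]; group
    rw [h5] at h4
    rcases w.zS_le h4 with h6 | h6
    · exact s_ne M₁ h6
    · exact s_ne M₂ (mul_eq_left.1 h6.symm)
  obtain ⟨P₃, hP, hPL, hPn⟩ := hloc.exists_not_le S
    (inf_le_right.trans (normalizer_le_normalizer_zc _)) hnot
  have hPS : IsParS (S : Subgroup G) P₃ := ⟨hP, hPn⟩
  have hPY : P₃ ≤ normalizer (zc S₁ : Set G) := hPL.trans (normalizer_le_normalizer_zc _)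
  have hSP := hPS.isLoc.le
  -- some element of `P₃` moves `z`
  obtain ⟨g, hg, hgz⟩ : ∃ g ∈ P₃, g * (M₁.e ss * M₂.e ss) * g⁻¹ ≠ M₁.e ss * M₂.e ss := by
    by_contra hcon
    push Not at hcon
    apply hPS.not_zc
    intro k hk
    refine MinSimple.VModule.mem_normalizer_of_map_le ?_
    rintro _ ⟨x, hx, rfl⟩
    show k * x * k⁻¹ ∈ zc (S : Subgroup G)
    rcases w.zS_le hx with rfl | rfl
    · rw [mul_one, mul_inv_cancel]; exact one_mem _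
    · rw [hcon k hk]; exact hx
  have htr : ∀ y ∈ zc S₁, y ≠ 1 → ∃ g ∈ P₃, g * (M₁.e ss * M₂.e ss) * g⁻¹ = y := by
    have h3 : ∃ g ∈ P₃, g * (M₁.e ss * M₂.e ss) * g⁻¹ = M₁.e ss := by
      rcases w.zS₁_le ((mem_normalizer_iff.1 (hPY hg) _).1 hzm) with h4 | h4 | h4 | h4
      · rw [mul_inv_eq_one, mul_eq_left] at h4
        exact absurd h4 w.z_ne
      · exact ⟨g, hg, h4⟩
      · refine ⟨s⁻¹ * g, mul_mem (inv_mem (hSP hs)) hg, ?_⟩
        have h5 : s⁻¹ * g * (M₁.e ss * M₂.e ss) * (s⁻¹ * g)⁻¹ =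
            s⁻¹ * (g * (M₁.e ss * M₂.e ss) * g⁻¹) * s := by group
        rw [h5, h4, ← hs1]; group
      · exact absurd h4 hgz
    obtain ⟨g, hg, h3⟩ := h3
    intro y hy hy1
    rcases w.zS₁_le hy with h | h | h | h
    · exact absurd h hy1
    · exact ⟨g, hg, by rw [h, h3]⟩
    · refine ⟨s * g, mul_mem (hSP hs) hg, ?_⟩
      calc s * g * (M₁.e ss * M₂.e ss) * (s * g)⁻¹ = s * (g * (M₁.e ss * M₂.e ss) * g⁻¹) * s⁻¹ := by group
        _ = y := by rw [h3, hs1, h]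
    · exact ⟨1, one_mem _, by rw [h]; group⟩
  have hzl : zl (S : Subgroup G) P₃ = zc S₁ := by
    apply le_antisymm
    · apply zl_le _ hPY
      intro x hx
      rcases w.zS_le hx with rfl | rfl
      · exact one_mem _
      · exact hzm
    · intro y hy
      by_cases hy1 : y = 1
      · rw [hy1]; exact one_mem _
      obtain ⟨g, hg, rfl⟩ := htr y hy hy1
      exact (mem_normalizer_iff.1 (le_normalizer_zl _ _ hg) _).1 (zc_le_zl _ _ w.z_mem_zcS)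
  refine ⟨P₃, hPS, hPL, hzl, htr, ?_⟩
  have h1 : WW (S : Subgroup G) P₃ ≤ zc (o2 (CZ (S : Subgroup G))) := by
    refine NoFF.Lines.W_le fun Q hQ c hc => ?_
    rw [Set.mem_singleton_iff.1 hQ]
    have h2 : zl (S : Subgroup G) P₃ ≤ zc (o2 (CZ (S : Subgroup G))) := by
      rw [hzl]
      exact w.zc_le_zc htri
    rintro _ ⟨x, hx, rfl⟩
    have h3 := normalizer_le_normalizer_zc _ (le_normalizer_o2 _ hc)
    exact (mem_normalizer_iff.1 h3 x).1 (h2 hx)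
  intro x hx
  rw [mem_centralizer_iff]
  intro y hy
  exact zc_comm _ y (h1 hy) x (h1 hx)

/-- **The local subgroup `H` of the triangle.** -/
structure TriH (_ : Wr S P M₁ M₂) (H : Subgroup G) : Prop where
  loc : IsLoc (S : Subgroup G) H
  nor : normalizer (((S : Subgroup G) ⊓ normalizer (V₁ : Set G) : Subgroup G) : Set G) ≤ H
  cen : ∀ y ∈ zc ((S : Subgroup G) ⊓ normalizer (V₁ : Set G)), y ≠ 1 → centralizer ({y} : Set G) ≤ H

/-- `⟨P₃, C_G(z)⟩ ≤ H` -/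
theorem triH_of {P₃ H : Subgroup G} (hloc : IsLoc (S : Subgroup G) H) (hP : P₃ ≤ H)
    (hC : CZ (S : Subgroup G) ≤ H)
    (htr : ∀ y ∈ zc ((S : Subgroup G) ⊓ normalizer (V₁ : Set G)), y ≠ 1 →
        ∃ g ∈ P₃, g * (M₁.e ss * M₂.e ss) * g⁻¹ = y) : TriH w H := by
  have hzm : M₁.e ss * M₂.e ss ∈ zc ((S : Subgroup G) ⊓ normalizer (V₁ : Set G)) := mul_mem w.s₁_mem w.s₂_mem
  refine ⟨hloc, fun n hn => ?_, fun y hy hy1 => ?_⟩
  · have h1 := (mem_normalizer_iff.1 (normalizer_le_normalizer_zc _ hn) _).1 hzm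
    have h2 : n * (M₁.e ss * M₂.e ss) * n⁻¹ ≠ 1 := by
      rw [Ne, mul_inv_eq_one, mul_eq_left]
      exact w.z_ne
    obtain ⟨g, hg, h3⟩ := htr _ h1 h2
    have h4 : g⁻¹ * n ∈ CZ (S : Subgroup G) := by
      rw [w.mem_CZ]
      calc g⁻¹ * n * (M₁.e ss * M₂.e ss) = g⁻¹ * (n * (M₁.e ss * M₂.e ss) * n⁻¹) * n := by group
        _ = M₁.e ss * M₂.e ss * (g⁻¹ * n) := by rw [← h3]; group
    have h5 : n = g * (g⁻¹ * n) := by group
    rw [h5]
    exact mul_mem (hP hg) (hC h4)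
  · obtain ⟨g, hg, rfl⟩ := htr y hy hy1
    intro x hx
    rw [mem_C] at hx
    have h4 : g⁻¹ * x * g ∈ CZ (S : Subgroup G) := by
      rw [w.mem_CZ]
      calc g⁻¹ * x * g * (M₁.e ss * M₂.e ss) = g⁻¹ * (x * (g * (M₁.e ss * M₂.e ss) * g⁻¹)) * g := by group
        _ = M₁.e ss * M₂.e ss * (g⁻¹ * x * g) := by rw [hx]; group
    have h5 : x = g * (g⁻¹ * x * g) * g⁻¹ := by group
    rw [h5]
    exact mul_mem (mul_mem (hP hg) (hC h4)) (inv_mem (hP hg))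

/-- **(1)** The triangle leads to NO-3S with `|V_P| = 4`, or to a local subgroup `H` with `TriH w H`. -/
theorem known_of_tri {K : Cls.{u}} (hK : NO3S.Two K) (hKG : K G) (hG : Ctx G)
    (hF : Full (S : Subgroup G)) (htri : 2 ∣ ((S : Subgroup G) ⊓ normalizer (V₁ : Set G)).relIndex
      (centralizer ({M₁.e ss} : Set G))) (hH : ∀ H : Subgroup G, TriH w H → False) : IsKnownSimple' G := by
  obtain ⟨P₃, hP, -, hzl, htr, hW⟩ := w.exists_P₃ htri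
  have hcard : Nat.card (zl (S : Subgroup G) P₃) = 4 := by rw [hzl, w.card_Y₀]
  have hn : NonLoc P₃ (CZ (S : Subgroup G)) := by
    intro U hU hPU hCU
    by_contra hU1
    exact hH _ (w.triH_of (isLoc_normalizer S hU hU1 (hP.isLoc.le.trans hPU)) hPU hCU htr)
  exact hK G hKG S P₃ (Hyp.of_four hG hP hn hcard hF hW) hcard

end fin

end Wr

end Cfsg.Agent.Omega.IId.LFour

end

section


/-!
# There is no triangle, `V_P` a sum of two even-subset modules of degree 5 (helper774)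

`w : Wr S P M₁ M₂`: `S₁ = N_S(V₁)` contains a Sylow 2-subgroup of `C_G(σ₁)` (`Wr.no_tri`).  Parity: in
`F = C_G(σ₁σ₂)` the orbit of `σ₁` is invariant under multiplication with `σ₁σ₂`, and for `t ∈ N_G(S₁) ∩ C(σ₁)`
with `σ₂^t = σ₁σ₂` the five elements `t σᵢ t⁻¹` (`σᵢ` the five singular vectors of `V₁`) belong to it, have
product 1 and are permuted by `S₁`.
-/

set_option autoImplicit false
set_option linter.unusedSectionVars false

namespace Cfsg.Agent.Omega.IId.LFour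

open Subgroup Pointwise Cfsg Cfsg.Agent.Omega.MinPar Cfsg.Agent.Omega.FFThm
open Cfsg.Agent.ZN (o2 zc jj zj zl zc_map)
open Cfsg.Agent.ZN.ChoiceBase (cj mem_cj)
open Cfsg.Agent.ZN.ChoiceSit (exists_syl syl_not_dvd)
open Cfsg.Agent.Omega.S5.Mod Cfsg.Agent.Omega.S5.TT
open Cfsg.Agent.Omega.S5.TT.Pos (na ns as sn n_ne s_ne a_ne n_ne_a n_ne_s a_ne_s e_sq' mem_C)
open Cfsg.Agent.MinSimple.VModule (mem_zc zc_le zc_comm zc_sq zc_le_zl le_normalizer_o2 o2_isPGroup o2_le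
  normalizer_le_normalizer_zc le_normalizer_zl zl_le le_o2 le_centralizer_zc)
open Cfsg.Agent.Omega.FrameNOFF (CZ)

universe u

variable {G : Type u} [Group G]

theorem ss_eq : (ss : Vec) = Pi.single 4 1 := by decide

theorem sum_single : (Pi.single 0 1 + Pi.single 1 1 + Pi.single 2 1 + Pi.single 3 1 + Pi.single 4 1 : Vec) = 1 := by
  decide

namespace Wr

variable {S : Sylow 2 G} {P V₁ V₂ L₁ L₂ : Subgroup G} {M₁ : FiveMod V₁ L₁} {M₂ : FiveMod V₂ L₂}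

/-- **No triangle.** `N_S(V₁)` contains a Sylow 2-subgroup of `C_G(σ₁)`. -/
theorem no_tri [Finite G] (w : Wr S P M₁ M₂) :
    ¬ 2 ∣ ((S : Subgroup G) ⊓ normalizer (V₁ : Set G)).relIndex (centralizer ({M₁.e ss} : Set G)) := by
  intro htri
  obtain ⟨t, htn, htc, htw⟩ := w.exists_tri htri
  obtain ⟨s, hs, p, q, hsw⟩ := w.swap
  have hs1 := w.sw_ss w.S_le hs hsw
  set S₁ := (S : Subgroup G) ⊓ normalizer (V₁ : Set G) with hS₁
  have hSF : (S : Subgroup G) ≤ CZ (S : Subgroup G) := le_centralizer_zc _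
  have htc' : t⁻¹ * M₁.e ss * t = M₁.e ss := by rw [mul_assoc, ← htc]; group
  have hidx : ¬ 4 ∣ S₁.relIndex (CZ (S : Subgroup G)) := by
    have h1 := Subgroup.relIndex_mul_relIndex S₁ (S : Subgroup G) (CZ (S : Subgroup G)) inf_le_left hSF
    have h2 : S₁.relIndex (S : Subgroup G) = 2 := by
      have h3 := card_mul_relIndex (inf_le_left : S₁ ≤ (S : Subgroup G))
      rw [w.card_S₁, mul_comm 2] at h3
      exact Nat.eq_of_mul_eq_mul_left Nat.card_pos h3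
    have h3 : ¬ 2 ∣ (S : Subgroup G).relIndex (CZ (S : Subgroup G)) := by
      intro h4
      exact S.not_dvd_index (h4.trans (Subgroup.relIndex_dvd_index_of_le hSF))
    rw [← h1, h2]
    intro h4
    apply h3
    obtain ⟨k, hk⟩ := h4
    exact ⟨k, by omega⟩
  have hFU : CZ (S : Subgroup G) ≤ normalizer (zc (o2 (CZ (S : Subgroup G))) : Set G) :=
    (le_normalizer_o2 _).trans (normalizer_le_normalizer_zc _)
  set g : Fin 5 → G := fun i => t * M₁.e (Pi.single i 1) * t⁻¹ with hg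
  have ginj : Function.Injective g := by
    intro i j h
    have h1 : M₁.e (Pi.single i 1) = M₁.e (Pi.single j 1) := mul_left_cancel (mul_right_cancel h)
    exact FiveMod.single_inj _ _ (M₁.e_eq_iff.1 h1)
  refine Parity.false_of_list (F := CZ (S : Subgroup G)) (U := zc (o2 (CZ (S : Subgroup G)))) (T := S₁)
    (v := M₁.e ss) (z := M₁.e ss * M₂.e ss) (s := s) (L := (List.finRange 5).map g)
    (fun a ha b hb => zc_comm _ a ha b hb) ?_ (fun f hf u hu => (mem_normalizer_iff.1 (hFU hf) u).1 hu)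
    (w.zc_le_zc htri w.s₁_mem) w.z_ne (fun f hf => w.mem_CZ.1 hf) hidx (hSF hs) ?_
    ((List.nodup_finRange 5).map ginj) ?_ ?_ ?_ ?_
  · intro a ha
    rw [← pow_two]
    exact (mem_zc.1 ha).2.2
  · rw [hs1, ← mul_assoc, M₁.e_sq, one_mul]
  · rw [List.length_map, List.length_finRange]; decide
  · have h1 : (List.finRange 5).map g = [g 0, g 1, g 2, g 3, g 4] := rfl
    rw [h1]
    simp only [List.prod_cons, List.prod_nil, mul_one, hg]
    have h2 : M₁.e (Pi.single 0 1) * M₁.e (Pi.single 1 1) * M₁.e (Pi.single 2 1) * M₁.e (Pi.single 3 1) *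
        M₁.e (Pi.single 4 1) = 1 := by
      rw [← M₁.e_add, ← M₁.e_add, ← M₁.e_add, ← M₁.e_add, sum_single, M₁.e_one]
    calc _ = t * (M₁.e (Pi.single 0 1) * M₁.e (Pi.single 1 1) * M₁.e (Pi.single 2 1) *
          M₁.e (Pi.single 3 1) * M₁.e (Pi.single 4 1)) * t⁻¹ := by group
      _ = 1 := by rw [h2]; group
  · intro x hx
    obtain ⟨i, -, rfl⟩ := List.mem_map.1 hx
    obtain ⟨l, hl, hi⟩ := M₁.exists_lift (Equiv.swap 4 i)
    refine ⟨t * l * t⁻¹, w.mem_CZ.2 ?_, ?_⟩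
    · have h1 := w.L₁_comm hl (M₂.e_mem ss)
      rw [← htw]
      calc t * l * t⁻¹ * (t * M₂.e ss * t⁻¹) = t * (l * M₂.e ss) * t⁻¹ := by group
        _ = t * M₂.e ss * t⁻¹ * (t * l * t⁻¹) := by rw [h1]; group
    · calc t * l * t⁻¹ * M₁.e ss * (t * l * t⁻¹)⁻¹ = t * (l * (t⁻¹ * M₁.e ss * t) * l⁻¹) * t⁻¹ := by group
        _ = g i := by rw [htc', hi, ss_eq, FiveMod.single_comp, Equiv.swap_apply_left]
  · intro x hx y hy
    obtain ⟨i, -, rfl⟩ := List.mem_map.1 hy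
    have h1 : t⁻¹ * x * t ∈ S₁ := by
      have h2 := (mem_normalizer_iff.1 (inv_mem htn) x).1 hx
      rwa [inv_inv] at h2
    obtain ⟨p', q', hp', -⟩ := w.S₁_ind h1
    refine List.mem_map.2 ⟨p' i, List.mem_finRange _, ?_⟩
    have h2 := hp' (Pi.single i 1)
    rw [FiveMod.single_comp] at h2
    show t * M₁.e (Pi.single (p' i) 1) * t⁻¹ = x * (t * M₁.e (Pi.single i 1) * t⁻¹) * x⁻¹
    rw [← h2]; group

/-- `S₁` is a Sylow 2-subgroup of `C_G(σ₂)`, too. -/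
theorem no_tri' [Finite G] (w : Wr S P M₁ M₂) :
    ¬ 2 ∣ ((S : Subgroup G) ⊓ normalizer (V₂ : Set G)).relIndex (centralizer ({M₂.e ss} : Set G)) :=
  w.symm.no_tri

end Wr

end Cfsg.Agent.Omega.IId.LFour

end

end
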