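import Cfsg.Agent.Mrg.Omega.IId.LFour.Quarter
import Cfsg.Agent.Involutions.BaerSuzuki
import Cfsg.Agent.Mrg.Omega.TTn.TwoTypes
import Mathlib

-- merged: Cfsg.Agent.Mrg.Omega.IId.LFour.TriLoc
section

/-!
# THEOREM TRI, the local case (project OMEGA, II.d L4; text helper644 #17091, (2)-(5))

`w : Wr S P M₁ M₂`, `S₁ = N_S(V₁)`, `t ∈ N_G(S₁)` centralises `σ₁`, `V₃ = t V₂ t⁻¹`. If `V₃` commutes with `V₂`
and lies in `O₂(C_G(σ))` for the five singular `σ ∈ V₁` then `V₃ ≤ O₂(C_G(p))` for every nonsingular `p ∈ V₂`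
(`Wr.V₃_le_Q`). Input: `V₂ ≤ O₂(C_G(n₂))` for the adapted `n₂ = M₂.e nn` (LEMMA X).

* `Wr.le_S₁_of_comm` : a 2-group `≥ S₁` which centralises `σ₁` and `σ₂` is `S₁`;
* `Wr.o2_centralizer_le` : `O₂(C_G(V₂)) ≤ S₁`;
* `Wr.zQ_le` : `Z(O₂(C_G(p))) ≤ S₁`;
* `Wr.comm_zQ` : `[V₃, Z(O₂(C_G(p)))] = 1` (Baer–Suzuki).
-/

set_option autoImplicit false
set_option linter.unusedSectionVars false

namespace Cfsg.Agent.Omega.IId.LFour

open Subgroup Pointwise Cfsg Cfsg.Agent.ZN Cfsg.Agent.Omega.MinPar Cfsg.Agent.Omega.FFThm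
open Cfsg.Agent.ZN.ChoiceBase (cj mem_cj)
open Cfsg.Agent.Omega.S5.Mod Cfsg.Agent.Omega.S5.TT
open Cfsg.Agent.Omega.S5.TT.Pos (na ns as sn n_ne s_ne a_ne n_ne_a n_ne_s a_ne_s e_sq' mem_C)
open Cfsg.Agent.Omega.Half (Amb amb_of_loc)
open Cfsg.Agent.MinSimple.VModule (mem_zc zc_le zc_comm zc_sq zc_le_zl le_normalizer_o2 o2_isPGroup o2_le
  le_o2 normalizer_le_normalizer_zc le_normalizer_zl)

universe u

namespace TriLoc

/-! ### Vectors and permutations -/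

/-- the singular vector `i` -/
def sg (i : Fin 5) : Vec := Pi.single i 1

/-- the pair `{i, j}` -/
def pp (i j : Fin 5) : Vec := sg i + sg j

theorem sg_comp (q : Equiv.Perm (Fin 5)) (i : Fin 5) : sg i ∘ q.symm = sg (q i) := by
  funext k
  simp only [sg, Function.comp_apply, Pi.single_apply, Equiv.symm_apply_eq]

theorem pp_comp (q : Equiv.Perm (Fin 5)) (i j : Fin 5) : pp i j ∘ q.symm = pp (q i) (q j) := by
  have h : pp i j ∘ q.symm = sg i ∘ q.symm + sg j ∘ q.symm := rfl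
  rw [h, sg_comp, sg_comp]; rfl

theorem nn_eq : nn = pp 0 1 := by decide

theorem ss_eq : ss = sg 4 := by decide

theorem perm_four : ∀ q : Equiv.Perm (Fin 5), q * dd = dd * q → q 4 = 4 := by
  decide +kernel

theorem key_dec : ∀ k a b c : Fin 5, (pp a 4 + pp c 4 = pp k 4 + pp b 4 ∨
    pp a 4 + pp c 4 = pp k 4 + pp b 4 + 1) → a ≠ k → b ≠ k → c ≠ a → c = k := by
  decide +kernel

theorem pp_inj : ∀ a k : Fin 5, (pp a 4 = pp k 4 ∨ pp a 4 = pp k 4 + 1) → a = k := by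
  decide +kernel

theorem pp_span : ∀ y : Vec, ∃ b₀ b₁ b₂ b₃ : Bool,
    (y = cond b₀ (pp 0 4) 0 + cond b₁ (pp 1 4) 0 + cond b₂ (pp 2 4) 0 + cond b₃ (pp 3 4) 0 ∨
     y = cond b₀ (pp 0 4) 0 + cond b₁ (pp 1 4) 0 + cond b₂ (pp 2 4) 0 + cond b₃ (pp 3 4) 0 + 1) := by
  decide +kernel

theorem sg_sum : sg 0 + sg 1 + sg 2 + sg 3 = sg 4 + 1 := by decide

theorem sg_span : ∀ y : Vec, ∃ b₀ b₁ b₂ b₃ : Bool,
    (y = cond b₀ (sg 0) 0 + cond b₁ (sg 1) 0 + cond b₂ (sg 2) 0 + cond b₃ (sg 3) 0 ∨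
     y = cond b₀ (sg 0) 0 + cond b₁ (sg 1) 0 + cond b₂ (sg 2) 0 + cond b₃ (sg 3) 0 + 1) := by
  decide +kernel

theorem exists_perm : ∀ i j : Fin 5, i ≠ j → ∃ q : Equiv.Perm (Fin 5), q 0 = i ∧ q 1 = j := by
  decide +kernel

end TriLoc

open TriLoc

variable {G : Type u} [Group G]

/-! ### Generalities -/

/-- `O₂` of a normal subgroup. -/
theorem o2_le_o2_of_normal' {H K : Subgroup G} (hK : K ≤ H) (hn : H ≤ normalizer (K : Set G)) :
    o2 K ≤ o2 H := by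
  refine le_o2 ((o2_le K).trans hK) (o2_isPGroup K) ?_
  exact hn.trans (ChoiceBase.normalizer_le_of_cj (F := fun X => o2 X) (fun g T => ChoiceBase.pCore_cj g T) K)

/-- `M` normalises the centre of `O₂(M)`. -/
theorem normalizer_zo2 [Finite G] (M : Subgroup G) :
    M ≤ normalizer ((o2 M ⊓ centralizer (o2 M : Set G) : Subgroup G) : Set G) := by
  intro g hg
  refine MinSimple.VModule.mem_normalizer_of_map_le ?_
  rintro _ ⟨x, hx, rfl⟩
  change g * x * g⁻¹ ∈ _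
  refine ⟨(mem_normalizer_iff.1 (le_normalizer_o2 M hg) x).1 hx.1, mem_centralizer_iff.mpr fun y hy => ?_⟩
  have hy' : g⁻¹ * y * g ∈ o2 M := by
    have := (mem_normalizer_iff.1 (le_normalizer_o2 M (inv_mem hg)) y).1 hy
    rwa [inv_inv] at this
  have h3 := mem_centralizer_iff.mp hx.2 _ hy'
  calc y * (g * x * g⁻¹) = g * (g⁻¹ * y * g * x) * g⁻¹ := by group
    _ = g * (x * (g⁻¹ * y * g)) * g⁻¹ := by rw [h3]
    _ = g * x * g⁻¹ * y := by group

theorem normalizer_cent [Finite G] {H U : Subgroup G} (h : H ≤ normalizer (U : Set G)) :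
    H ≤ normalizer (centralizer (U : Set G) : Set G) := by
  intro g hg
  refine MinSimple.VModule.mem_normalizer_of_map_le ?_
  rintro _ ⟨x, hx, rfl⟩
  change g * x * g⁻¹ ∈ _
  refine mem_centralizer_iff.mpr fun y hy => ?_
  have hy' : g⁻¹ * y * g ∈ U := by
    have := (mem_normalizer_iff.1 (inv_mem (h hg)) y).1 hy
    rwa [inv_inv] at this
  have h3 := mem_centralizer_iff.mp hx _ hy'
  calc y * (g * x * g⁻¹) = g * (g⁻¹ * y * g * x) * g⁻¹ := by group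
    _ = g * (x * (g⁻¹ * y * g)) * g⁻¹ := by rw [h3]
    _ = g * x * g⁻¹ * y := by group

/-- **LEMMA U.** -/
theorem lemmaU' [Finite G] {H U V C : Subgroup G} (hU : H ≤ normalizer (U : Set G))
    (hC : H ⊓ centralizer (U : Set G) ≤ C) (hVH : V ≤ H) (hVU : V ≤ centralizer (U : Set G))
    (hV : V ≤ o2 C) : V ≤ o2 H := by
  set K := H ⊓ centralizer (U : Set G) with hK
  have hKn : H ≤ normalizer (K : Set G) := Half.le_normalizer_inf le_normalizer (normalizer_cent hU)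
  have h1 : K ⊓ o2 C ≤ o2 K := by
    refine le_o2 inf_le_left ((o2_isPGroup C).to_le inf_le_right) ?_
    exact Half.le_normalizer_inf le_normalizer (hC.trans (le_normalizer_o2 C))
  exact (le_inf (le_inf hVH hVU) hV).trans (h1.trans (o2_le_o2_of_normal' inf_le_left hKn))

/-- Baer–Suzuki in a subgroup. -/
theorem exists_inverted [Finite G] {M : Subgroup G} {t : G} (htM : t ∈ M) (ht : t * t = 1) (hO : t ∉ o2 M) :
    ∃ d ∈ M, d ≠ 1 ∧ Odd (orderOf d) ∧ t * d * t⁻¹ = d⁻¹ := by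
  obtain ⟨d, h1, h2, h3⟩ := Involutions.BaerSuzuki.exists_odd_inverted (⟨t, htM⟩ : M) (Subtype.ext ht) (by
    intro hP
    apply hO
    have h4 : (Subgroup.normalClosure {(⟨t, htM⟩ : M)}).map M.subtype ≤ o2 M := by
      refine le_o2 (map_subtype_le _) (hP.map _) ?_
      exact MinSimple.VModule.le_normalizer_map_of_normal Subgroup.normalClosure_normal
    exact h4 ⟨⟨t, htM⟩, Subgroup.subset_normalClosure (Set.mem_singleton _), rfl⟩)
  refine ⟨d, d.2, fun h0 => h1 (Subtype.ext h0), ?_, congrArg Subtype.val h3⟩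
  rwa [Subgroup.orderOf_coe]

/-- `d` of odd order is a power of `d²` -/
theorem odd_comm {d v : G} (hodd : Odd (orderOf d)) (h : d * d * v = v * (d * d)) : d * v = v * d := by
  obtain ⟨k, hk⟩ := hodd
  have h1 : (d * d) ^ (k + 1) = d := by
    rw [← pow_two, ← pow_mul]
    have h2 : 2 * (k + 1) = orderOf d + 1 := by omega
    rw [h2, pow_add, pow_orderOf_eq_one, one_mul, pow_one]
  have h3 : Commute (d * d) v := h
  have h4 := h3.pow_left (k + 1)
  rw [h1] at h4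
  exact h4

/-- **The Baer–Suzuki trick** (helper84 #16986): `x` inverts `d`, commutes with `v` and with `v^d`, and lies in
`O₂(C(v))`: then `d = 1`. -/
theorem trick [Finite G] {x d v : G} (hodd : Odd (orderOf d)) (hd : x * d * x⁻¹ = d⁻¹)
    (hx : x ∈ o2 (centralizer ({v} : Set G))) (hxv : x * (d * v * d⁻¹) = d * v * d⁻¹ * x) : d = 1 := by
  have hxC : x * v = v * x := mem_C.1 (o2_le _ hx)
  -- `d` commutes with `v`
  have h1 : d * v * d⁻¹ = d⁻¹ * v * d := by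
    calc d * v * d⁻¹ = x * (d * v * d⁻¹) * x⁻¹ := by rw [hxv]; group
      _ = (x * d * x⁻¹) * (x * v * x⁻¹) * (x * d * x⁻¹)⁻¹ := by group
      _ = d⁻¹ * v * d := by rw [hd, hxC, inv_inv]; group
  have h2 : d * v = v * d := by
    apply odd_comm hodd
    calc d * d * v = d * (d * v * d⁻¹) * d := by group
      _ = d * (d⁻¹ * v * d) * d := by rw [h1]
      _ = v * (d * d) := by group
  have hdC : d ∈ centralizer ({v} : Set G) := mem_C.2 h2
  -- `d⁻² ∈ O₂(C(v))`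
  have h3 : d⁻¹ * d⁻¹ ∈ o2 (centralizer ({v} : Set G)) := by
    have h4 : x * (d * x⁻¹ * d⁻¹) ∈ o2 (centralizer ({v} : Set G)) :=
      mul_mem hx ((mem_normalizer_iff.1 (le_normalizer_o2 _ hdC) _).1 (inv_mem hx))
    have h5 : x * (d * x⁻¹ * d⁻¹) = d⁻¹ * d⁻¹ := by
      calc x * (d * x⁻¹ * d⁻¹) = (x * d * x⁻¹) * d⁻¹ := by group
        _ = d⁻¹ * d⁻¹ := by rw [hd]
    rwa [h5] at h4
  obtain ⟨m, hm⟩ := o2_isPGroup _ ⟨_, h3⟩
  have hm' : (d⁻¹ * d⁻¹) ^ (2 ^ m) = 1 := congrArg Subtype.val hm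
  rw [← pow_two, ← pow_mul, inv_pow, inv_eq_one] at hm'
  have h6 : orderOf d ∣ 2 ^ (m + 1) := by
    rw [pow_succ, mul_comm]; exact orderOf_dvd_of_pow_eq_one hm'
  obtain ⟨j, -, hj⟩ := (Nat.dvd_prime_pow Nat.prime_two).1 h6
  rcases Nat.eq_zero_or_pos j with h0 | h0
  · rw [h0, pow_zero] at hj
    exact orderOf_eq_one_iff.1 hj
  · exfalso
    rw [hj] at hodd
    have h7 : Even (2 ^ j) := (Nat.even_pow.2 ⟨even_two, by omega⟩)
    exact (Nat.not_even_iff_odd.2 hodd) h7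

namespace Wr

variable {S : Sylow 2 G} {P V₁ V₂ L₁ L₂ : Subgroup G} {M₁ : FiveMod V₁ L₁} {M₂ : FiveMod V₂ L₂}

section fin

variable [Finite G] (w : Wr S P M₁ M₂)
include w

/-- A 2-group `≥ S₁` which centralises `σ₁` and `σ₂` is `S₁`. -/
theorem le_S₁_of_comm {R : Subgroup G} (hR : IsPGroup 2 R)
    (hS : (S : Subgroup G) ⊓ normalizer (V₁ : Set G) ≤ R) (h1 : ∀ r ∈ R, r * M₁.e ss = M₁.e ss * r)
    (h2 : ∀ r ∈ R, r * M₂.e ss = M₂.e ss * r) : R ≤ (S : Subgroup G) ⊓ normalizer (V₁ : Set G) := by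
  set S₁ := (S : Subgroup G) ⊓ normalizer (V₁ : Set G) with hS₁
  have hz1 : M₁.e ss ∈ zc R := mem_zc.2 ⟨hS (w.V₁_le_S₁ (M₁.e_mem ss)), h1, e_sq' M₁ ss⟩
  have hz2 : M₂.e ss ∈ zc R := mem_zc.2 ⟨hS (w.V₂_le_S₁ (M₂.e_mem ss)), h2, e_sq' M₂ ss⟩
  have hc1 := Half.card_le_sylow S hR
  have hc2 : Nat.card R ≠ Nat.card (S : Subgroup G) := by
    intro h0
    have h3 : Nat.card (zc R) ≤ 2 := by
      rw [Half.card_zc_of_card_eq S hR h0]
      exact w.card_zS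
    have h4 := eq_of_card_le_two h3 hz1 hz2 (s_ne M₁) (s_ne M₂)
    exact s_ne M₁ (w.V₁_ne_V₂ (M₁.e_mem ss) (by rw [h4]; exact M₂.e_mem ss))
  have hc3 : Nat.card (S : Subgroup G) = 2 * Nat.card S₁ := w.card_S₁
  have hc4 : Nat.card R ≤ Nat.card S₁ := by
    obtain ⟨a, ha⟩ := IsPGroup.iff_card.1 hR
    obtain ⟨b, hb⟩ := IsPGroup.iff_card.1 S.isPGroup'
    rw [ha, hb] at hc1 hc2
    rw [hb] at hc3
    rw [ha]
    have h4 : a < b := by
      rcases lt_trichotomy a b with h | h | h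
      · exact h
      · exact absurd (by rw [h]) hc2
      · exact absurd ((Nat.pow_le_pow_iff_right (by norm_num : 1 < 2)).1 hc1) (by omega)
    have h5 : 2 ^ (a + 1) ≤ 2 ^ b := Nat.pow_le_pow_right (by norm_num) h4
    rw [pow_succ] at h5
    omega
  exact (Subgroup.eq_of_le_of_card_ge hS hc4).ge

/-- `O₂(C_G(V₂)) ≤ S₁` -/
theorem o2_centralizer_le : o2 (centralizer (V₂ : Set G)) ≤ (S : Subgroup G) ⊓ normalizer (V₁ : Set G) := by
  set S₁ := (S : Subgroup G) ⊓ normalizer (V₁ : Set G) with hS₁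
  have hSN : S₁ ≤ normalizer (V₂ : Set G) := by rw [hS₁, w.S₁_eq]; exact inf_le_right
  have hSO : S₁ ≤ normalizer ((o2 (centralizer (V₂ : Set G)) : Subgroup G) : Set G) :=
    (normalizer_cent hSN).trans
      (ChoiceBase.normalizer_le_of_cj (F := fun X => o2 X) (fun g T => ChoiceBase.pCore_cj g T) _)
  have hL : L₁ ≤ centralizer (V₂ : Set G) := fun g hg => mem_centralizer_iff.2 fun v hv =>
    (w.L₁_comm hg hv).symm
  have hO1 : o2 (centralizer (V₂ : Set G)) ≤ centralizer (V₁ : Set G) :=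
    w.half (o2_isPGroup _) (hL.trans (le_normalizer_o2 _)) hSO
  refine le_sup_right.trans (w.le_S₁_of_comm (R := S₁ ⊔ o2 (centralizer (V₂ : Set G))) ?_ le_sup_left ?_ ?_)
  · exact (S.isPGroup'.to_le inf_le_left).to_sup_of_normal_right' (o2_isPGroup _) hSO
  · have : S₁ ⊔ o2 (centralizer (V₂ : Set G)) ≤ centralizer ({M₁.e ss} : Set G) :=
      sup_le (fun g hg => mem_C.2 (w.S₁_comm_s₁ hg)) fun g hg => mem_C.2
        (mem_centralizer_iff.1 (hO1 hg) _ (M₁.e_mem ss)).symm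
    exact fun r hr => mem_C.1 (this hr)
  · have : S₁ ⊔ o2 (centralizer (V₂ : Set G)) ≤ centralizer ({M₂.e ss} : Set G) :=
      sup_le (fun g hg => mem_C.2 (w.S₁_comm_s₂ hg)) fun g hg => mem_C.2
        (mem_centralizer_iff.1 (o2_le _ hg) _ (M₂.e_mem ss)).symm
    exact fun r hr => mem_C.1 (this hr)

/-- `Z(O₂(C_G(p))) ≤ S₁` for `p ∈ V₂` with `V₂ ≤ O₂(C_G(p))` -/
theorem zQ_le {p : G} (hp : p ∈ V₂) (hQ : V₂ ≤ o2 (centralizer ({p} : Set G))) :
    o2 (centralizer ({p} : Set G)) ⊓ centralizer (o2 (centralizer ({p} : Set G)) : Set G) ≤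
      (S : Subgroup G) ⊓ normalizer (V₁ : Set G) := by
  refine le_trans (le_o2 ?_ ((o2_isPGroup _).to_le inf_le_left) ?_) w.o2_centralizer_le
  · exact inf_le_right.trans (centralizer_le hQ)
  · refine le_trans (fun g hg => mem_C.2 ?_) (normalizer_zo2 (centralizer ({p} : Set G)))
    exact (mem_centralizer_iff.1 hg p hp).symm

/-- elements of `S₁` act on `V₃ = t V₂ t⁻¹` through `D₈` -/
theorem act_V₃ {t : G} (ht : t ∈ normalizer (((S : Subgroup G) ⊓ normalizer (V₁ : Set G) : Subgroup G) : Set G))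
    {b : G} (hb : b ∈ (S : Subgroup G) ⊓ normalizer (V₁ : Set G)) :
    ∃ q : Equiv.Perm (Fin 5), q * dd = dd * q ∧
      ∀ y, b * (t * M₂.e y * t⁻¹) * b⁻¹ = t * M₂.e (y ∘ q.symm) * t⁻¹ := by
  have h1 : t⁻¹ * b * t ∈ (S : Subgroup G) ⊓ normalizer (V₁ : Set G) := by
    have := (mem_normalizer_iff.1 (inv_mem ht) b).1 hb
    rwa [inv_inv] at this
  obtain ⟨p, q, -, hq⟩ := w.S₁_ind h1
  refine ⟨q, w.symm.dS w.S_le h1.1 hq, fun y => ?_⟩
  have h2 := hq y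
  calc b * (t * M₂.e y * t⁻¹) * b⁻¹ = t * (t⁻¹ * b * t * M₂.e y * (t⁻¹ * b * t)⁻¹) * t⁻¹ := by group
    _ = _ := by rw [h2]

/-- **(4)** `[V₃, Z(O₂(C_G(p)))] = 1` -/
theorem comm_zQ {t : G}
    (ht : t ∈ normalizer (((S : Subgroup G) ⊓ normalizer (V₁ : Set G) : Subgroup G) : Set G))
    (hc : ∀ v ∈ V₂, ∀ u ∈ V₂, t * v * t⁻¹ * u = u * (t * v * t⁻¹))
    (hO : ∀ v ∈ V₂, ∀ i, t * v * t⁻¹ ∈ o2 (centralizer ({M₁.e (sg i)} : Set G)))
    {p : G} (hp : p ∈ V₂) (hQ : V₂ ≤ o2 (centralizer ({p} : Set G)))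
    (hQ1 : V₁ ≤ o2 (centralizer ({p} : Set G))) (hQ2 : o2 (centralizer ({p} : Set G)) ≤ centralizer (V₁ : Set G))
    {v : G} (hv : v ∈ V₂) {b : G} (hb : b ∈ o2 (centralizer ({p} : Set G)) ⊓
      centralizer (o2 (centralizer ({p} : Set G)) : Set G)) :
    b * (t * v * t⁻¹) = t * v * t⁻¹ * b := by
  set Q := o2 (centralizer ({p} : Set G)) with hQd
  set B := Q ⊓ centralizer (Q : Set G) with hB
  have hBS := w.zQ_le hp hQ
  have hCB : centralizer ({p} : Set G) ≤ normalizer (B : Set G) := normalizer_zo2 _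
  have hBc : ∀ b ∈ B, ∀ c ∈ B, b * c = c * b := fun b hb c hc => (mem_centralizer_iff.1 hb.2 c hc.1).symm
  have hVB : ∀ u ∈ V₁, u ∈ B := fun u hu => ⟨hQ1 hu, mem_centralizer_iff.2 fun g hg =>
    (mem_centralizer_iff.1 (hQ2 hg) u hu).symm⟩
  have key : ∀ k : Fin 5, ∀ b ∈ B, b * (t * M₂.e (pp k 4) * t⁻¹) = t * M₂.e (pp k 4) * t⁻¹ * b := by
    intro k
    by_contra hcon
    push Not at hcon
    obtain ⟨b₀, hb₀, hne⟩ := hcon
    set x := t * M₂.e (pp k 4) * t⁻¹ with hx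
    have hxx : x * x = 1 := by
      calc x * x = t * (M₂.e (pp k 4) * M₂.e (pp k 4)) * t⁻¹ := by rw [hx]; group
        _ = 1 := by rw [M₂.e_sq]; group
    have hxi : x⁻¹ = x := inv_eq_of_mul_eq_one_left hxx
    have hxC : x ∈ centralizer ({p} : Set G) := mem_C.2 (hc _ (M₂.e_mem _) p hp)
    have hxO : x ∉ Q := fun h => hne (mem_centralizer_iff.1 hb₀.2 x h).symm
    obtain ⟨d, hdC, hd1, hodd, hd⟩ := exists_inverted hxC hxx hxO
    have star : ∀ b ∈ B, ∀ b' ∈ B, b * x ≠ x * b → b' * x ≠ x * b' → b * b' * x = x * (b * b') := by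
      intro b hb b' hb' h1 h2
      obtain ⟨q, hqd, hq⟩ := w.act_V₃ ht (hBS hb)
      obtain ⟨q', hqd', hq'⟩ := w.act_V₃ ht (hBS hb')
      have h4 := perm_four q hqd
      have h4' := perm_four q' hqd'
      have e1 : ∀ i, b * (t * M₂.e (pp i 4) * t⁻¹) * b⁻¹ = t * M₂.e (pp (q i) 4) * t⁻¹ := fun i => by
        rw [hq, pp_comp, h4]
      have e2 : ∀ i, b' * (t * M₂.e (pp i 4) * t⁻¹) * b'⁻¹ = t * M₂.e (pp (q' i) 4) * t⁻¹ := fun i => by
        rw [hq', pp_comp, h4']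
      have hqk : q k ≠ k := by
        intro h
        apply h1
        have := e1 k
        rw [h] at this
        rwa [mul_inv_eq_iff_eq_mul] at this
      have hqk' : q' k ≠ k := by
        intro h
        apply h2
        have := e2 k
        rw [h] at this
        rwa [mul_inv_eq_iff_eq_mul] at this
      -- `[x, b'] ∈ B`
      have h5 : x * (b' * x * b'⁻¹) ∈ B := by
        have h6 : x * b' * x⁻¹ ∈ B := (mem_normalizer_iff.1 (hCB hxC) b').1 hb'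
        rw [hxi] at h6
        have h7 := mul_mem h6 (inv_mem hb')
        have h8 : x * b' * x * b'⁻¹ = x * (b' * x * b'⁻¹) := by group
        rwa [h8] at h7
      have h6 : b * (x * (b' * x * b'⁻¹)) * b⁻¹ = x * (b' * x * b'⁻¹) := by
        rw [hBc b hb _ h5, mul_inv_cancel_right]
      have h7 : b * (x * (b' * x * b'⁻¹)) * b⁻¹ = (b * x * b⁻¹) * (b * (b' * x * b'⁻¹) * b⁻¹) := by group
      rw [h7, hx, e2, e1, e1] at h6
      have h8 : ∀ y z, t * M₂.e y * t⁻¹ * (t * M₂.e z * t⁻¹) = t * M₂.e (y + z) * t⁻¹ := fun y z => by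
        rw [M₂.e_add]; group
      rw [h8, h8] at h6
      have h9 : M₂.e (pp (q k) 4 + pp (q (q' k)) 4) = M₂.e (pp k 4 + pp (q' k) 4) :=
        mul_left_cancel (mul_right_cancel h6)
      have h10 := key_dec k (q k) (q' k) (q (q' k)) (M₂.e_eq_iff.1 h9) hqk hqk'
        (fun h => hqk' (q.injective h))
      have h11 : b * b' * x * (b * b')⁻¹ = x := by
        calc b * b' * x * (b * b')⁻¹ = b * (b' * x * b'⁻¹) * b⁻¹ := by group
          _ = x := by rw [hx, e2, e1, h10]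
      rwa [mul_inv_eq_iff_eq_mul] at h11
    have hu : ∀ i, d * M₁.e (sg i) * d⁻¹ ∈ B := fun i =>
      (mem_normalizer_iff.1 (hCB hdC) _).1 (hVB _ (M₁.e_mem _))
    have hex : ∃ i, x * (d * M₁.e (sg i) * d⁻¹) = d * M₁.e (sg i) * d⁻¹ * x := by
      by_contra hno
      push Not at hno
      have h1 := star _ (hu 0) _ (hu 1) (fun h => hno 0 h.symm) (fun h => hno 1 h.symm)
      have h2 := star _ (hu 2) _ (hu 3) (fun h => hno 2 h.symm) (fun h => hno 3 h.symm)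
      apply hno 4
      have h3 : d * M₁.e (sg 4) * d⁻¹ = d * M₁.e (sg 0) * d⁻¹ * (d * M₁.e (sg 1) * d⁻¹) *
          (d * M₁.e (sg 2) * d⁻¹ * (d * M₁.e (sg 3) * d⁻¹)) := by
        have h4 : M₁.e (sg 0) * M₁.e (sg 1) * M₁.e (sg 2) * M₁.e (sg 3) = M₁.e (sg 4) := by
          rw [← M₁.e_add, ← M₁.e_add, ← M₁.e_add, M₁.e_eq_iff]
          exact Or.inr sg_sum
        rw [← h4]; group
      have h5 : Commute (d * M₁.e (sg 0) * d⁻¹ * (d * M₁.e (sg 1) * d⁻¹)) x := h1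
      have h6 : Commute (d * M₁.e (sg 2) * d⁻¹ * (d * M₁.e (sg 3) * d⁻¹)) x := h2
      rw [h3]
      exact (h5.mul_left h6).eq.symm
    obtain ⟨i, hi⟩ := hex
    exact hd1 (trick hodd hd (hO _ (M₂.e_mem _) i) hi)
  -- all of `V₃`
  obtain ⟨y, rfl⟩ := (M₂.mem_iff v).1 hv
  have hadd : ∀ y z, b * (t * M₂.e y * t⁻¹) = t * M₂.e y * t⁻¹ * b →
      b * (t * M₂.e z * t⁻¹) = t * M₂.e z * t⁻¹ * b →
      b * (t * M₂.e (y + z) * t⁻¹) = t * M₂.e (y + z) * t⁻¹ * b := by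
    intro y z h1 h2
    have e : t * M₂.e (y + z) * t⁻¹ = t * M₂.e y * t⁻¹ * (t * M₂.e z * t⁻¹) := by
      rw [M₂.e_add]; group
    rw [e]
    have h3 : Commute b (t * M₂.e y * t⁻¹) := h1
    have h4 : Commute b (t * M₂.e z * t⁻¹) := h2
    exact (h3.mul_right h4).eq
  have h0 : b * (t * M₂.e 0 * t⁻¹) = t * M₂.e 0 * t⁻¹ * b := by rw [M₂.e_zero]; group
  have h1 : b * (t * M₂.e 1 * t⁻¹) = t * M₂.e 1 * t⁻¹ * b := by rw [M₂.e_one]; group
  have hcd : ∀ (β : Bool) (k : Fin 5), b * (t * M₂.e (cond β (pp k 4) 0) * t⁻¹) =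
      t * M₂.e (cond β (pp k 4) 0) * t⁻¹ * b := by
    intro β k
    cases β
    · exact h0
    · exact key k b hb
  obtain ⟨b₀, b₁, b₂, b₃, h | h⟩ := pp_span y
  · rw [h]
    exact hadd _ _ (hadd _ _ (hadd _ _ (hcd b₀ 0) (hcd b₁ 1)) (hcd b₂ 2)) (hcd b₃ 3)
  · rw [h]
    exact hadd _ _ (hadd _ _ (hadd _ _ (hadd _ _ (hcd b₀ 0) (hcd b₁ 1)) (hcd b₂ 2)) (hcd b₃ 3)) h1

/-- **(5)** `V₃ ≤ O₂(C_G(p))` -/
theorem V₃_le_of {t : G}
    (ht : t ∈ normalizer (((S : Subgroup G) ⊓ normalizer (V₁ : Set G) : Subgroup G) : Set G))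
    (hc : ∀ v ∈ V₂, ∀ u ∈ V₂, t * v * t⁻¹ * u = u * (t * v * t⁻¹))
    (hO : ∀ v ∈ V₂, ∀ i, t * v * t⁻¹ ∈ o2 (centralizer ({M₁.e (sg i)} : Set G)))
    {p : G} (hp : p ∈ V₂) (hQ : V₂ ≤ o2 (centralizer ({p} : Set G)))
    (hQ1 : V₁ ≤ o2 (centralizer ({p} : Set G))) (hQ2 : o2 (centralizer ({p} : Set G)) ≤ centralizer (V₁ : Set G))
    {v : G} (hv : v ∈ V₂) : t * v * t⁻¹ ∈ o2 (centralizer ({p} : Set G)) := by
  have h := lemmaU' (H := centralizer ({p} : Set G)) (U := o2 (centralizer ({p} : Set G)) ⊓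
    centralizer (o2 (centralizer ({p} : Set G)) : Set G)) (V := cj t V₂)
    (C := centralizer ({M₁.e (sg 4)} : Set G)) (normalizer_zo2 _) ?_ ?_ ?_ ?_
  · apply h
    rw [mem_cj]
    have e : t⁻¹ * (t * v * t⁻¹) * t = v := by group
    rw [e]; exact hv
  · intro g hg
    refine mem_C.2 (mem_centralizer_iff.1 hg.2 (M₁.e (sg 4)) ⟨hQ1 (M₁.e_mem _), ?_⟩).symm
    exact mem_centralizer_iff.2 fun y hy => (mem_centralizer_iff.1 (hQ2 hy) _ (M₁.e_mem _)).symm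
  · intro x hx
    rw [mem_cj] at hx
    have := hc _ hx p hp
    have e : t * (t⁻¹ * x * t) * t⁻¹ = x := by group
    rw [e] at this
    exact mem_C.2 this
  · intro x hx
    rw [mem_cj] at hx
    refine mem_centralizer_iff.2 fun b hb => ?_
    have := w.comm_zQ ht hc hO hp hQ hQ1 hQ2 hx hb
    have e : t * (t⁻¹ * x * t) * t⁻¹ = x := by group
    rwa [e] at this
  · intro x hx
    rw [mem_cj] at hx
    have := hO _ hx 4
    have e : t * (t⁻¹ * x * t) * t⁻¹ = x := by group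
    rwa [e] at this

/-- The data at `p = {i, j} ∈ V₂`. -/
theorem exists_l₂ (i j : Fin 5) (hij : i ≠ j) : ∃ l ∈ L₂, M₂.e (pp i j) = l * M₂.e nn * l⁻¹ := by
  obtain ⟨q, h0, h1⟩ := exists_perm i j hij
  obtain ⟨l, hl, hi⟩ := M₂.exists_lift q
  have hi : M₂.Ind l q := hi
  refine ⟨l, hl, ?_⟩
  rw [hi, nn_eq, pp_comp, h0, h1]

theorem Q_pp {i j : Fin 5} (hij : i ≠ j) (hX : V₂ ≤ o2 (centralizer ({M₂.e nn} : Set G))) :
    V₂ ≤ o2 (centralizer ({M₂.e (pp i j)} : Set G)) ∧ V₁ ≤ o2 (centralizer ({M₂.e (pp i j)} : Set G)) ∧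
      o2 (centralizer ({M₂.e (pp i j)} : Set G)) ≤ centralizer (V₁ : Set G) := by
  obtain ⟨l, hl, he⟩ := w.exists_l₂ i j hij
  rw [he, ← o2_conj]
  have hcomm : ∀ v ∈ V₁, l⁻¹ * v * l = v := fun v hv => by
    rw [mul_assoc, ← w.L₂_comm hl hv]; group
  refine ⟨fun v hv => ?_, fun v hv => ?_, fun x hx => ?_⟩
  · rw [mem_cj]
    refine hX ?_
    have := (mem_normalizer_iff.1 (inv_mem (M₂.le_normalizer hl)) v).1 hv
    rwa [inv_inv] at this
  · rw [mem_cj, hcomm v hv]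
    exact w.symm.quarter hv
  · rw [mem_cj] at hx
    refine mem_centralizer_iff.2 fun v hv => ?_
    have h1 := mem_centralizer_iff.1 (w.symm.quarter_cent hx) v hv
    calc v * x = l * ((l⁻¹ * v * l) * (l⁻¹ * x * l)) * l⁻¹ := by group
      _ = l * (l⁻¹ * x * l * (l⁻¹ * v * l)) * l⁻¹ := by rw [hcomm v hv, h1]
      _ = x * v := by group

/-- **THEOREM TRI, (2)-(5)**: in the local case `V₃ = t V₂ t⁻¹ ≤ O₂(C_G(p))` for all nonsingular `p ∈ V₂`. -/
theorem V₃_le_Q {t : G}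
    (ht : t ∈ normalizer (((S : Subgroup G) ⊓ normalizer (V₁ : Set G) : Subgroup G) : Set G))
    (hc : ∀ v ∈ V₂, ∀ u ∈ V₂, t * v * t⁻¹ * u = u * (t * v * t⁻¹))
    (hO : ∀ v ∈ V₂, ∀ i, t * v * t⁻¹ ∈ o2 (centralizer ({M₁.e (sg i)} : Set G)))
    (hX : V₂ ≤ o2 (centralizer ({M₂.e nn} : Set G))) {i j : Fin 5} (hij : i ≠ j) {v : G} (hv : v ∈ V₂) :
    t * v * t⁻¹ ∈ o2 (centralizer ({M₂.e (pp i j)} : Set G)) := by
  obtain ⟨h1, h2, h3⟩ := w.Q_pp hij hX
  exact w.V₃_le_of ht hc hO (M₂.e_mem _) h1 h2 h3 hv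

end fin

end Wr

end Cfsg.Agent.Omega.IId.LFour

end

-- merged: Cfsg.Agent.Mrg.Omega.IId.LFour.TwoTypes
section

section


/-!
# `S₅ wr 2` against `S₅ wr 2`: two modules are reduced to one (project OMEGA, II.d L4, SwOne; helper242 #19319)

`w : Wr S P M₁ M₂`, `w' : Wr S' P' M₁' M₂'` with the same `n = e nn`, `a = e aa` in the first summands and
`N_S(V₁) = N_{S'}(V₁')`; `h ∈ C_G(n)` with `[V_P, V_{P'} ^ h] ≠ 1`. Then (helper107's LEMMA TWO, `TTn/TwoTypes.lean`)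
there is `k ∈ C_G(n)` with `[V₁', V₁' ^ k] ≠ 1`.

* `Wr.duo` : the configuration `Duo M₁ M₁' x h`;
* `Wr.exists_one` : the conclusion; `Wr.exists_one'` : from an arbitrary non-commuting pair of `V_P`, `V_{P'} ^ h`.
-/

set_option autoImplicit false
set_option linter.unusedSectionVars false

namespace Cfsg.Agent.Omega.IId.LFour

open Subgroup Pointwise Cfsg Cfsg.Agent.ZN Cfsg.Agent.Omega.MinPar Cfsg.Agent.Omega.FFThm
open Cfsg.Agent.ZN.ChoiceBase (cj mem_cj)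
open Cfsg.Agent.Omega.S5.Mod Cfsg.Agent.Omega.S5.TT
open Cfsg.Agent.Omega.S5.TT.Pos (n_ne mem_C)
open Cfsg.Agent.MinSimple.VModule (le_normalizer_o2 o2_isPGroup o2_le)

universe u

variable {G : Type u} [Group G]

namespace Wr

variable {S S' : Sylow 2 G} {P P' V₁ V₂ L₁ L₂ V₁' V₂' L₁' L₂' : Subgroup G} {M₁ : FiveMod V₁ L₁}
  {M₂ : FiveMod V₂ L₂} {M₁' : FiveMod V₁' L₁'} {M₂' : FiveMod V₂' L₂'}

section fin

variable [Finite G] (w : Wr S P M₁ M₂)
include w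

/-- an element of `Q_n` which does not centralise `u ∈ V₁` acts as `(0 1)` -/
theorem swap_of_ne {q u : G} (hq : q ∈ o2 (centralizer ({M₁.e nn} : Set G))) (hu : u ∈ V₁)
    (h : q * u ≠ u * q) : M₁.Ind q (Equiv.swap 0 1) := by
  refine (w.Q_ind hq).resolve_left fun h1 => h ?_
  exact (mem_centralizer_iff.1 (FiveMod.ind_one_iff.1 h1) u hu).symm

/-- The configuration `Duo` of LEMMA TWO. -/
theorem duo (w' : Wr S' P' M₁' M₂') (en : M₁'.e nn = M₁.e nn) (ea : M₁'.e aa = M₁.e aa)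
    (hS : (S : Subgroup G) ⊓ normalizer (V₁ : Set G) = (S' : Subgroup G) ⊓ normalizer (V₁' : Set G)) {h : G}
    (hn : h * M₁.e nn = M₁.e nn * h) {v u : G} (hv : v ∈ V₁') (hu : u ∈ V₁)
    (hne : h * v * h⁻¹ * u ≠ u * (h * v * h⁻¹)) : ∃ x, TTn.TwoTypes.Duo M₁ M₁' x h := by
  obtain ⟨x, hx, hi⟩ := w.exists_x
  have hxS : x ∈ (S' : Subgroup G) ⊓ normalizer (V₁' : Set G) := hS ▸ ⟨hx.1, hi.mem_normalizer⟩
  have hQ : ∀ g, g * M₁.e nn = M₁.e nn * g → ∀ q ∈ o2 (centralizer ({M₁.e nn} : Set G)),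
      g * q * g⁻¹ ∈ o2 (centralizer ({M₁.e nn} : Set G)) := fun g hg q hq =>
    (mem_normalizer_iff.1 (le_normalizer_o2 _ (mem_C.2 hg)) q).1 hq
  have hv₂ : V₁' ≤ o2 (centralizer ({M₁.e nn} : Set G)) := by rw [← en]; exact w'.V₁_le_Q
  have hn' : h⁻¹ * M₁.e nn = M₁.e nn * h⁻¹ := TTn.TwoTypes.inv_comm hn
  refine ⟨x, en, ea, fun q hq => w.Q_ind hq, fun q hq => w'.Q_ind (by rw [en]; exact hq), w.V₁_le_Q, hv₂,
    fun r hr => ?_, tt_n hi, hi.mem_normalizer, hxS.2, hn,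
    ⟨v, hv, w.swap_of_ne (hQ h hn v (hv₂ hv)) hu hne⟩, u, hu, ?_⟩
  · have h1 : r ∈ (S' : Subgroup G) ⊓ normalizer (V₁' : Set G) := by
      have h2 := w'.symm.o2_centralizer_le hr
      rwa [← w'.S₁_eq] at h2
    rw [← hS] at h1
    have h3 : r * M₁.e nn = M₁.e nn * r := by
      have h4 : M₁.e nn ∈ V₁' := by rw [← en]; exact M₁'.e_mem _
      exact (mem_centralizer_iff.1 (o2_le _ hr) _ h4).symm
    obtain ⟨p, q, hp, hi', -⟩ := w.T_ind ⟨h1.1, mem_C.2 h3⟩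
    exact ⟨p, hp, hi'⟩
  · have h1 : h⁻¹ * u * h ∈ o2 (centralizer ({M₁.e nn} : Set G)) := by
      have := hQ _ hn' u (w.V₁_le_Q hu)
      rwa [inv_inv] at this
    refine w'.swap_of_ne (by rw [en]; exact h1) hv fun h2 => hne ?_
    calc h * v * h⁻¹ * u = h * (v * (h⁻¹ * u * h)) * h⁻¹ := by group
      _ = h * (h⁻¹ * u * h * v) * h⁻¹ := by rw [h2]
      _ = u * (h * v * h⁻¹) := by group

/-- **LEMMA TWO for `S₅ wr 2`.** -/
theorem exists_one (w' : Wr S' P' M₁' M₂') (en : M₁'.e nn = M₁.e nn) (ea : M₁'.e aa = M₁.e aa)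
    (hS : (S : Subgroup G) ⊓ normalizer (V₁ : Set G) = (S' : Subgroup G) ⊓ normalizer (V₁' : Set G)) {h : G}
    (hn : h * M₁.e nn = M₁.e nn * h) {v u : G} (hv : v ∈ V₁') (hu : u ∈ V₁)
    (hne : h * v * h⁻¹ * u ≠ u * (h * v * h⁻¹)) :
    ∃ k, k * M₁'.e nn = M₁'.e nn * k ∧ ∃ v ∈ V₁', ∃ u ∈ V₁', k * v * k⁻¹ * u ≠ u * (k * v * k⁻¹) := by
  obtain ⟨x, d⟩ := w.duo w' en ea hS hn hv hu hne
  obtain ⟨k, hk, -, ⟨_, ⟨v', hv', rfl⟩, hi⟩, -, -⟩ := d.exists_one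
  have hi : M₁'.Ind (k * v' * k⁻¹) (Equiv.swap 0 1) := hi
  refine ⟨k, hk, v', hv', M₁'.e ![0, 1, 1, 0, 0], M₁'.e_mem _, fun h1 => ?_⟩
  rcases (hi.commute_iff _).1 h1 with h2 | h2
  · exact absurd h2 (by decide)
  · exact absurd h2 (by decide)

/-- The same, from an arbitrary non-commuting pair. -/
theorem exists_one' (w' : Wr S' P' M₁' M₂') (en : M₁'.e nn = M₁.e nn) (ea : M₁'.e aa = M₁.e aa)
    (hS : (S : Subgroup G) ⊓ normalizer (V₁ : Set G) = (S' : Subgroup G) ⊓ normalizer (V₁' : Set G)) {h : G}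
    (hn : h * M₁.e nn = M₁.e nn * h) {v u : G} (hv : v ∈ zl (S' : Subgroup G) P') (hu : u ∈ zl (S : Subgroup G) P)
    (hne : h * v * h⁻¹ * u ≠ u * (h * v * h⁻¹)) :
    ∃ k, k * M₁'.e nn = M₁'.e nn * k ∧ ∃ v ∈ V₁', ∃ u ∈ V₁', k * v * k⁻¹ * u ≠ u * (k * v * k⁻¹) := by
  have hQ : ∀ g, g * M₁.e nn = M₁.e nn * g → ∀ q ∈ o2 (centralizer ({M₁.e nn} : Set G)),
      g * q * g⁻¹ ∈ o2 (centralizer ({M₁.e nn} : Set G)) := fun g hg q hq =>
    (mem_normalizer_iff.1 (le_normalizer_o2 _ (mem_C.2 hg)) q).1 hq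
  have hn' : h⁻¹ * M₁.e nn = M₁.e nn * h⁻¹ := TTn.TwoTypes.inv_comm hn
  obtain ⟨v₁, hv₁, v₂, hv₂, rfl⟩ : ∃ v₁ ∈ V₁', ∃ v₂ ∈ V₂', v₁ * v₂ = v := by
    have hN : V₂' ≤ normalizer (V₁' : Set G) := fun v hv =>
      centralizer_le_normalizer _ (mem_centralizer_iff.2 fun u hu => w'.comm hu hv)
    have h2 : v ∈ ((V₁' ⊔ V₂' : Subgroup G) : Set G) := w'.sup ▸ hv
    rw [coe_mul_of_right_le_normalizer_left _ _ hN] at h2
    exact Set.mem_mul.1 h2
  obtain ⟨u₁, hu₁, u₂, hu₂, rfl⟩ : ∃ u₁ ∈ V₁, ∃ u₂ ∈ V₂, u₁ * u₂ = u := by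
    have hN : V₂ ≤ normalizer (V₁ : Set G) := fun v hv =>
      centralizer_le_normalizer _ (mem_centralizer_iff.2 fun u hu => w.comm hu hv)
    have h2 : u ∈ ((V₁ ⊔ V₂ : Subgroup G) : Set G) := w.sup ▸ hu
    rw [coe_mul_of_right_le_normalizer_left _ _ hN] at h2
    exact Set.mem_mul.1 h2
  refine w.exists_one w' en ea hS hn hv₁ hu₁ fun h1 => hne ?_
  -- `V₂'` is centralised by `Q_n`
  have hq₁ : v₁ ∈ o2 (centralizer ({M₁.e nn} : Set G)) := by rw [← en]; exact w'.V₁_le_Q hv₁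
  have c1 : h * v₂ * h⁻¹ * (u₁ * u₂) = u₁ * u₂ * (h * v₂ * h⁻¹) := by
    have h2 : h⁻¹ * (u₁ * u₂) * h ∈ o2 (centralizer ({M₁'.e nn} : Set G)) := by
      rw [en]
      have := hQ _ hn' _ (mul_mem (w.V₁_le_Q hu₁) (w.quarter hu₂))
      rwa [inv_inv] at this
    have h3 := mem_centralizer_iff.1 (w'.quarter_cent h2) v₂ hv₂
    calc h * v₂ * h⁻¹ * (u₁ * u₂) = h * (v₂ * (h⁻¹ * (u₁ * u₂) * h)) * h⁻¹ := by group
      _ = h * (h⁻¹ * (u₁ * u₂) * h * v₂) * h⁻¹ := by rw [h3]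
      _ = u₁ * u₂ * (h * v₂ * h⁻¹) := by group
  have c2 : h * v₁ * h⁻¹ * u₂ = u₂ * (h * v₁ * h⁻¹) :=
    (mem_centralizer_iff.1 (w.quarter_cent (hQ h hn v₁ hq₁)) u₂ hu₂).symm
  calc h * (v₁ * v₂) * h⁻¹ * (u₁ * u₂) = h * v₁ * h⁻¹ * (h * v₂ * h⁻¹ * (u₁ * u₂)) := by group
    _ = h * v₁ * h⁻¹ * (u₁ * u₂ * (h * v₂ * h⁻¹)) := by rw [c1]
    _ = h * v₁ * h⁻¹ * u₁ * u₂ * (h * v₂ * h⁻¹) := by group
    _ = u₁ * (h * v₁ * h⁻¹) * u₂ * (h * v₂ * h⁻¹) := by rw [h1]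
    _ = u₁ * (h * v₁ * h⁻¹ * u₂) * (h * v₂ * h⁻¹) := by group
    _ = u₁ * (u₂ * (h * v₁ * h⁻¹)) * (h * v₂ * h⁻¹) := by rw [c2]
    _ = u₁ * u₂ * (h * (v₁ * v₂) * h⁻¹) := by group

end fin

end Wr

end Cfsg.Agent.Omega.IId.LFour

end

section


/-!
# A transfer argument on the Petersen graph (helper774)

`ρ` an action of `Sym(5)` on an elementary abelian 2-group `A` (as a family of homomorphisms), `s i ∈ A`
(`i = 0, …, 4`) permuted by `Sym(5)`, with product 1, `τ ∈ A` fixed, and the fixed points of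
`D₈ = ⟨(0 1), (2 3), (0 2)(1 3)⟩` are `1, s₄, τ, s₄τ`.  Then the fixed points of `⟨(0 1), (2 3)⟩` are the
eight elements `n^i a^j τ^k`, `n = s₀s₁`, `a = s₂s₃` (`fixed`).
-/

set_option autoImplicit false
set_option linter.unusedSectionVars false

namespace Cfsg.Agent.Omega.IId.LFour.Petersen

/-- permutations of five points -/
abbrev Pm := Equiv.Perm (Fin 5)

/-- `(0 2)(1 3)` -/
def xx : Pm := Equiv.swap 0 2 * Equiv.swap 1 3

/-- the 3-cycle `2 → 3 → 4 → 2` -/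
def hh : Pm := Equiv.swap 2 3 * Equiv.swap 3 4

/-- the 3-cycle `0 → 1 → 2 → 0` -/
def kk : Pm := Equiv.swap 0 1 * Equiv.swap 1 2

/-- the 5-cycle `i → i + 1` -/
def cc : Pm := ⟨fun i => i + 1, fun i => i - 1, by decide, by decide⟩

/-- representatives of the cosets of `D₈` -/
def L15 : List Pm := (List.range 5).flatMap fun i => (List.range 3).map fun j => cc ^ i * kk ^ j

/-- representatives of the cosets of the stabilizer of `{0, 1}` -/
def L10 : List Pm := (List.range 5).flatMap fun i => (List.range 2).map fun j => cc ^ i * Equiv.swap 1 2 ^ j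

/-- canonical representative modulo `⟨(0 1), (2 3)⟩` -/
def can1 (p : Pm) : Pm := if p 0 ≤ p 1 then p else p * Equiv.swap 0 1

def can2 (p : Pm) : Pm := if p 2 ≤ p 3 then p else p * Equiv.swap 2 3

def can (p : Pm) : Pm := can2 (can1 p)

def La : List Pm := L10.flatMap fun g => [g, g * hh, g * hh * hh]

def Lb : List Pm := L15.flatMap fun r => [r, r * xx]

theorem perm_lists : (La.map can).Perm (Lb.map can) := by
  decide +kernel

variable {A : Type*} [CommGroup A]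

/-- The data. -/
structure Dat (ρ : Pm → A →* A) (s : Fin 5 → A) (τ : A) : Prop where
  sq : ∀ a : A, a * a = 1
  one : ∀ a, ρ 1 a = a
  mul : ∀ p q a, ρ (p * q) a = ρ p (ρ q a)
  perm : ∀ p i, ρ p (s i) = s (p i)
  prod : s 0 * s 1 * s 2 * s 3 * s 4 = 1
  fixτ : ∀ p, ρ p τ = τ
  τ_ne : τ ≠ 1
  fix : ∀ u, ρ (Equiv.swap 0 1) u = u → ρ (Equiv.swap 2 3) u = u → ρ xx u = u →
    u = 1 ∨ u = s 4 ∨ u = τ ∨ u = s 4 * τ

namespace Dat

variable {ρ : Pm → A →* A} {s : Fin 5 → A} {τ : A} (h : Dat ρ s τ)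
include h

theorem s_four : s 0 * s 1 * (s 2 * s 3) = s 4 := by
  have h1 := h.prod
  calc s 0 * s 1 * (s 2 * s 3) = s 0 * s 1 * s 2 * s 3 * (s 4 * s 4) := by rw [h.sq]; group
    _ = s 0 * s 1 * s 2 * s 3 * s 4 * s 4 := by group
    _ = s 4 := by rw [h1, one_mul]

theorem mul_fix {p q : Pm} {a : A} (hp : ρ p a = a) (hq : ρ q a = a) : ρ (p * q) a = a := by
  rw [h.mul, hq, hp]

section
variable {y : A} (h01 : ρ (Equiv.swap 0 1) y = y) (h23 : ρ (Equiv.swap 2 3) y = y)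
include h01 h23

theorem can_eq (p : Pm) : ρ (can p) y = ρ p y := by
  have e1 : ∀ q : Pm, ρ (can1 q) y = ρ q y := by
    intro q
    unfold can1
    split_ifs
    · rfl
    · rw [h.mul, h01]
  have e2 : ∀ q : Pm, ρ (can2 q) y = ρ q y := by
    intro q
    unfold can2
    split_ifs
    · rfl
    · rw [h.mul, h23]
  rw [can, e2, e1]

theorem xx01 {u : A} (hu : ρ (Equiv.swap 2 3) u = u) : ρ (Equiv.swap 0 1) (ρ xx u) = ρ xx u := by
  have e : (Equiv.swap 0 1 : Pm) * xx = xx * Equiv.swap 2 3 := by decide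
  rw [← h.mul, e, h.mul, hu]

theorem xx23 {u : A} (hu : ρ (Equiv.swap 0 1) u = u) : ρ (Equiv.swap 2 3) (ρ xx u) = ρ xx u := by
  have e : (Equiv.swap 2 3 : Pm) * xx = xx * Equiv.swap 0 1 := by decide
  rw [← h.mul, e, h.mul, hu]

/-- `u · u^x` is a fixed point of `D₈` -/
theorem norm_mem {u : A} (hu : ρ (Equiv.swap 0 1) u = u) (hu' : ρ (Equiv.swap 2 3) u = u) :
    u * ρ xx u = 1 ∨ u * ρ xx u = s 4 ∨ u * ρ xx u = τ ∨ u * ρ xx u = s 4 * τ := by
  refine h.fix _ ?_ ?_ ?_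
  · rw [map_mul, hu, h.xx01 h01 h23 hu']
  · rw [map_mul, hu', h.xx23 h01 h23 hu]
  · have e : xx * xx = 1 := by decide
    rw [map_mul, ← h.mul, e, h.one, mul_comm]

theorem u_fix : ρ (Equiv.swap 0 1) (y * ρ hh y * ρ (hh * hh) y) = y * ρ hh y * ρ (hh * hh) y ∧
    ρ (Equiv.swap 2 3) (y * ρ hh y * ρ (hh * hh) y) = y * ρ hh y * ρ (hh * hh) y := by
  have e1 : (Equiv.swap 0 1 : Pm) * hh = hh * Equiv.swap 0 1 := by decide
  have e2 : (Equiv.swap 0 1 : Pm) * (hh * hh) = (hh * hh) * Equiv.swap 0 1 := by decide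
  have e3 : (Equiv.swap 2 3 : Pm) * hh = (hh * hh) * Equiv.swap 2 3 := by decide
  have e4 : (Equiv.swap 2 3 : Pm) * (hh * hh) = hh * Equiv.swap 2 3 := by decide
  have f1 : ρ (Equiv.swap 0 1) (ρ hh y) = ρ hh y := by rw [← h.mul, e1, h.mul, h01]
  have f2 : ρ (Equiv.swap 0 1) (ρ (hh * hh) y) = ρ (hh * hh) y := by rw [← h.mul, e2, h.mul, h01]
  have f3 : ρ (Equiv.swap 2 3) (ρ hh y) = ρ (hh * hh) y := by rw [← h.mul, e3, h.mul, h23]
  have f4 : ρ (Equiv.swap 2 3) (ρ (hh * hh) y) = ρ hh y := by rw [← h.mul, e4, h.mul, h23]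
  refine ⟨by rw [map_mul, map_mul, h01, f1, f2], ?_⟩
  rw [map_mul, map_mul, h23, f3, f4, mul_assoc, mul_assoc, mul_comm (ρ hh y)]

/-- the transfer to the stabilizer of `{0, 1}` -/
theorem y3 (d : A) (hd : (y * ρ hh y * ρ (hh * hh) y) * ρ xx (y * ρ hh y * ρ (hh * hh) y) = d)
    (hd' : d = 1 ∨ d = τ) : y * ρ xx y = 1 ∨ y * ρ xx y = s 4 := by
  set u := y * ρ hh y * ρ (hh * hh) y with hu
  have u01 : ρ (Equiv.swap 0 1) u = u := (h.u_fix h01 h23).1
  have u23 : ρ (Equiv.swap 2 3) u = u := (h.u_fix h01 h23).2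
  have uh : ρ hh u = u := by
    have e1 : hh * (hh * hh) = 1 := by decide
    rw [hu, map_mul, map_mul, ← h.mul, ← h.mul, e1, h.one, mul_comm, ← mul_assoc]
  have dfix : ∀ p, ρ p d = d := by
    rcases hd' with rfl | rfl
    · intro p; exact map_one _
    · exact h.fixτ
  have ux : ρ xx u = u * d := by
    rw [← hd, ← mul_assoc, h.sq, one_mul]
  have uc : ∀ p, ρ (p * (xx * hh)) u = ρ p u * d := by
    intro p
    rw [h.mul, h.mul xx hh, uh, ux, map_mul, dfix]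
  have hd1 : d = 1 := by
    have e : (1 : Pm) * (xx * hh) * (xx * hh) * (xx * hh) * (xx * hh) * (xx * hh) = 1 := by decide
    have h2 : ρ (1 * (xx * hh) * (xx * hh) * (xx * hh) * (xx * hh) * (xx * hh)) u = u * d * d * d * d * d := by
      rw [uc, uc, uc, uc, uc, h.one]
    rw [e, h.one, mul_assoc (u * d * d) d d, h.sq, mul_one, mul_assoc u d d, h.sq, mul_one] at h2
    exact (mul_eq_left.1 h2.symm)
  rw [hd1, mul_one] at ux
  have hcc : ρ (xx * hh) u = u := h.mul_fix ux uh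
  have h34 : ρ (Equiv.swap 3 4) u = u := by
    have e : (Equiv.swap 3 4 : Pm) = hh * Equiv.swap 2 3 * (hh * hh) := by decide
    rw [e]
    exact h.mul_fix (h.mul_fix uh u23) (h.mul_fix uh uh)
  have h12 : ρ (Equiv.swap 1 2) u = u := by
    have e : (Equiv.swap 1 2 : Pm) = (xx * hh) * (xx * hh) * (xx * hh) * Equiv.swap 3 4 * ((xx * hh) * (xx * hh)) := by
      decide
    rw [e]
    exact h.mul_fix (h.mul_fix (h.mul_fix (h.mul_fix hcc hcc) hcc) h34) (h.mul_fix hcc hcc)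
  have hc : ρ cc u = u := by
    have e : cc = Equiv.swap 1 2 * (xx * hh) * Equiv.swap 1 2 := by decide
    rw [e]
    exact h.mul_fix (h.mul_fix h12 hcc) h12
  have hpow : ∀ (p : Pm), ρ p u = u → ∀ i : ℕ, ρ (p ^ i) u = u := by
    intro p hp i
    induction i with
    | zero => rw [pow_zero, h.one]
    | succ i ih => rw [pow_succ]; exact h.mul_fix ih hp
  have hL10 : ∀ g ∈ L10, ρ g u = u := by
    intro g hg
    simp only [L10, List.mem_flatMap, List.mem_map] at hg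
    obtain ⟨i, -, j, -, rfl⟩ := hg
    exact h.mul_fix (hpow _ hc i) (hpow _ h12 j)
  -- the product over the 30 flags
  have pa : (La.map fun q => ρ q y).prod = 1 := by
    have h2 : ∀ (L : List Pm), (∀ g ∈ L, ρ g u = u) →
        ((L.flatMap fun g => [g, g * hh, g * hh * hh]).map fun q => ρ q y).prod = u ^ L.length := by
      intro L
      induction L with
      | nil => intro _; simp
      | cons g L ih =>
        intro hL
        rw [List.flatMap_cons, List.map_append, List.prod_append, ih fun g' hg' => hL g' (List.mem_cons_of_mem _ hg'),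
          List.length_cons, pow_succ']
        congr 1
        rw [← hL g List.mem_cons_self, hu, map_mul, map_mul, ← h.mul, ← h.mul]
        simp only [List.map_cons, List.map_nil, List.prod_cons, List.prod_nil, mul_one, mul_assoc]
    have h3 := h2 L10 hL10
    have h4 : L10.length = 2 * 5 := by decide
    rw [h4, pow_mul, pow_two, h.sq, one_pow] at h3
    exact h3
  have pb : (Lb.map fun q => ρ q y).prod = (L15.map fun r => ρ r (y * ρ xx y)).prod := by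
    have h2 : ∀ (L : List Pm), ((L.flatMap fun r => [r, r * xx]).map fun q => ρ q y).prod =
        (L.map fun r => ρ r (y * ρ xx y)).prod := by
      intro L
      induction L with
      | nil => simp
      | cons g L ih =>
        rw [List.flatMap_cons, List.map_append, List.prod_append, ih, List.map_cons, List.prod_cons]
        congr 1
        simp only [List.map_cons, List.map_nil, List.prod_cons, List.prod_nil, mul_one, map_mul, h.mul]
    exact h2 L15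
  have hc' : (fun q : Pm => ρ q y) = fun q => ρ (can q) y := by
    funext q
    exact (h.can_eq h01 h23 q).symm
  have pab : (La.map fun q => ρ q y).prod = (Lb.map fun q => ρ q y).prod := by
    rw [hc']
    have h2 := (perm_lists.map fun q => ρ q y).prod_eq
    rw [List.map_map, List.map_map] at h2
    exact h2
  have hfin : (L15.map fun r => ρ r (y * ρ xx y)).prod = 1 := by rw [← pb, ← pab, pa]
  have hτ15 : ∀ (L : List Pm), (L.map fun r => ρ r τ).prod = τ ^ L.length := by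
    intro L
    induction L with
    | nil => simp
    | cons g L ih => rw [List.map_cons, List.prod_cons, ih, h.fixτ, List.length_cons, pow_succ']
  have h15 : L15.length = 2 * 7 + 1 := by decide
  have hτ' : (L15.map fun r => ρ r τ).prod = τ := by
    rw [hτ15, h15, pow_succ, pow_mul, pow_two, h.sq, one_pow, one_mul]
  have hs' : (L15.map fun r => ρ r (s 4)).prod = 1 := by
    have e1 : (fun r : Pm => ρ r (s 4)) = s ∘ fun r => r 4 := by
      funext r; exact h.perm r 4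
    have e2 : L15.map (fun r => r 4) = [4, 4, 4, 0, 0, 0, 1, 1, 1, 2, 2, 2, 3, 3, 3] := by decide
    rw [e1, ← List.map_map, e2]
    simp only [List.map_cons, List.map_nil, List.prod_cons, List.prod_nil, mul_one]
    calc _ = (s 0 * s 1 * s 2 * s 3 * s 4) * (s 0 * s 1 * s 2 * s 3 * s 4) * (s 0 * s 1 * s 2 * s 3 * s 4) := by
          simp only [mul_assoc, mul_comm, mul_left_comm]
      _ = 1 := by rw [h.prod]; simp
  rcases h.norm_mem h01 h23 h01 h23 with h2 | h2 | h2 | h2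
  · exact Or.inl h2
  · exact Or.inr h2
  · rw [h2, hτ'] at hfin
    exact absurd hfin h.τ_ne
  · rw [h2] at hfin
    have e : (fun r : Pm => ρ r (s 4 * τ)) = fun r => ρ r (s 4) * ρ r τ := by
      funext r; exact map_mul _ _ _
    rw [e, List.prod_map_mul, hs', hτ', one_mul] at hfin
    exact absurd hfin h.τ_ne

omit h01 h23 in
theorem n_fix : ρ (Equiv.swap 0 1) (s 0 * s 1) = s 0 * s 1 ∧ ρ (Equiv.swap 2 3) (s 0 * s 1) = s 0 * s 1 ∧
    ρ hh (s 0 * s 1) = s 0 * s 1 ∧ ρ xx (s 0 * s 1) = s 2 * s 3 := by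
  refine ⟨?_, ?_, ?_, ?_⟩
  · rw [map_mul, h.perm, h.perm, show (Equiv.swap 0 1 : Pm) 0 = 1 by decide,
      show (Equiv.swap 0 1 : Pm) 1 = 0 by decide, mul_comm]
  · rw [map_mul, h.perm, h.perm, show (Equiv.swap 2 3 : Pm) 0 = 0 by decide,
      show (Equiv.swap 2 3 : Pm) 1 = 1 by decide]
  · rw [map_mul, h.perm, h.perm, show hh 0 = 0 by decide, show hh 1 = 1 by decide]
  · rw [map_mul, h.perm, h.perm, show xx 0 = 2 by decide, show xx 1 = 3 by decide]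

theorem norm_two : y * ρ xx y = 1 ∨ y * ρ xx y = s 4 := by
  obtain ⟨n, hn⟩ : ∃ n, n = s 0 * s 1 := ⟨_, rfl⟩
  have hnf := h.n_fix
  rw [← hn] at hnf
  obtain ⟨n1, n2, n3, n4⟩ := hnf
  set u := y * ρ hh y * ρ (hh * hh) y with hu
  have u01 : ρ (Equiv.swap 0 1) u = u := (h.u_fix h01 h23).1
  have u23 : ρ (Equiv.swap 2 3) u = u := (h.u_fix h01 h23).2
  have key : ∀ d, u * ρ xx u = d → d = s 4 * 1 ∨ d = s 4 * τ → y * ρ xx y = 1 ∨ y * ρ xx y = s 4 := by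
    intro d hd hd'
    have m01 : ρ (Equiv.swap 0 1) (y * n) = y * n := by rw [map_mul, h01, n1]
    have m23 : ρ (Equiv.swap 2 3) (y * n) = y * n := by rw [map_mul, h23, n2]
    have n5 : ρ (hh * hh) n = n := h.mul_fix n3 n3
    have e3 : y * n * ρ hh (y * n) * ρ (hh * hh) (y * n) = u * n := by
      rw [map_mul, map_mul, n3, n5, hu]
      calc y * n * (ρ hh y * n) * (ρ (hh * hh) y * n) = y * ρ hh y * ρ (hh * hh) y * (n * n) * n := by
            simp only [mul_assoc, mul_comm, mul_left_comm]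
        _ = _ := by rw [h.sq, mul_one]
    have e4 : ∀ v, v * n * ρ xx (v * n) = v * ρ xx v * s 4 := by
      intro v
      rw [map_mul, n4, ← h.s_four, ← hn]
      simp only [mul_assoc, mul_comm, mul_left_comm]
    have h5 := h.y3 m01 m23 (u * n * ρ xx (u * n)) (by rw [e3]) (by
      rw [e4, hd]
      rcases hd' with rfl | rfl
      · left; rw [mul_one, h.sq]
      · right; rw [mul_comm, ← mul_assoc, h.sq, one_mul])
    rw [e4] at h5
    rcases h5 with h5 | h5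
    · right
      calc y * ρ xx y = y * ρ xx y * (s 4 * s 4) := by rw [h.sq, mul_one]
        _ = s 4 := by rw [← mul_assoc, h5, one_mul]
    · left
      exact mul_eq_right.1 h5
  rcases h.norm_mem h01 h23 u01 u23 with h2 | h2 | h2 | h2
  · exact h.y3 h01 h23 _ h2 (Or.inl rfl)
  · exact key _ h2 (Or.inl (mul_one _).symm)
  · exact h.y3 h01 h23 _ h2 (Or.inr rfl)
  · exact key _ h2 (Or.inr rfl)

/-- **The fixed points of `⟨(0 1), (2 3)⟩`.** -/
theorem fixed : ∃ v, (v = 1 ∨ v = s 4 ∨ v = τ ∨ v = s 4 * τ) ∧ (y = v ∨ y = s 0 * s 1 * v) := by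
  obtain ⟨n1, n2, n3, n4⟩ := h.n_fix
  rcases h.norm_two h01 h23 with h2 | h2
  · refine ⟨y, h.fix y h01 h23 ?_, Or.inl rfl⟩
    calc ρ xx y = y * y * ρ xx y := by rw [h.sq, one_mul]
      _ = y := by rw [mul_assoc, h2, mul_one]
  · refine ⟨s 0 * s 1 * y, h.fix _ (by rw [map_mul, n1, h01]) (by rw [map_mul, n2, h23]) ?_, Or.inr ?_⟩
    · rw [map_mul, n4]
      calc s 2 * s 3 * ρ xx y = s 2 * s 3 * (y * (y * ρ xx y)) := by rw [← mul_assoc y, h.sq, one_mul]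
        _ = s 2 * s 3 * (y * (s 0 * s 1 * (s 2 * s 3))) := by rw [h2, h.s_four]
        _ = s 0 * s 1 * y * ((s 2 * s 3) * (s 2 * s 3)) := by
          simp only [mul_assoc, mul_comm, mul_left_comm]
        _ = s 0 * s 1 * y := by rw [h.sq, mul_one]
    · rw [← mul_assoc, h.sq, one_mul]

end

end Dat

end Cfsg.Agent.Omega.IId.LFour.Petersen

end

end
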